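import Cfsg.Agent.Lib.HeldType.CentShape.Code

/-!
# The action of a normaliser of `2^{1+6}` on its six dimensional quotient
-/

set_option autoImplicit false
set_option linter.unusedSectionVars false
set_option linter.unusedSimpArgs false

namespace Cfsg.Lib.HeldType.CentShape

open Frame (extQ)

/-- The linear map with given images of the basis vectors. -/
def appV : List ℕ → ℕ → ℕ
  | [], _ => 0
  | m :: ms, v => Nat.xor (Nat.mul (Nat.mod v 2) m) (appV ms (Nat.div v 2))

/-- The singular vectors. -/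
def sing : List ℕ := (List.range 64).filter fun v => Nat.beq (qF v) 0

/-- A predicate holds for all six tuples of images of a symplectic basis under an isometry, the
first image in a given list. -/
def isoAll (starts : List ℕ) (p : List ℕ → Bool) : Bool :=
  starts.all fun a =>
    let L := sing.filter fun w => Nat.beq (bF a w) 0
    let L' := sing.filter fun w => Nat.beq (bF a w) 1
    L.all fun b =>
      let L₂ := L.filter fun w => Nat.beq (bF b w) 0
      let L₂' := L'.filter fun w => Nat.beq (bF b w) 0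
      let M := L.filter fun w => Nat.beq (bF b w) 1
      L₂.all fun c =>
        (L₂'.filter fun w => Nat.beq (bF c w) 0).all fun d =>
          (M.filter fun w => Nat.beq (bF c w) 0 && Nat.beq (bF d w) 0).all fun e =>
            (L₂.filter fun w => Nat.beq (bF c w) 1 && Nat.beq (bF d w) 0 && Nat.beq (bF e w) 0).all
              fun f => p [a, b, c, d, e, f]

theorem xor_mul_bit (p q m : ℕ) (hp : p < 2) (hq : q < 2) :
    (p ^^^ q) * m = (p * m) ^^^ (q * m) := by
  interval_cases p <;> interval_cases q <;> simp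

theorem appV_xor : ∀ (M : List ℕ) (v w : ℕ), appV M (v ^^^ w) = appV M v ^^^ appV M w
  | [], _, _ => by simp [appV]
  | m :: ms, v, w => by
    have h1 : (v ^^^ w) % 2 = (v % 2) ^^^ (w % 2) := by
      have := Nat.xor_mod_two_pow (a := v) (b := w) (n := 1); simpa using this
    show ((v ^^^ w) % 2 * m) ^^^ appV ms ((v ^^^ w) / 2) =
      (v % 2 * m ^^^ appV ms (v / 2)) ^^^ (w % 2 * m ^^^ appV ms (w / 2))
    rw [Nat.xor_div_two, appV_xor ms, h1, xor_mul_bit _ _ _ (Nat.mod_lt _ (by omega))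
      (Nat.mod_lt _ (by omega))]
    ac_rfl

theorem appV_zero : ∀ M : List ℕ, appV M 0 = 0
  | [] => rfl
  | m :: ms => by
    show (0 % 2 * m) ^^^ appV ms (0 / 2) = 0
    simp [appV_zero ms]

theorem half_mulQ : ∀ x < 128, ∀ y < 128, mulQ x y / 2 = Nat.xor (x / 2) (y / 2) := by
  decide +kernel

theorem extQ_half {img : ℕ → ℕ} (himg : ∀ i < 6, img i < 128) {x : ℕ} (hx : x < 128) :
    extQ img x / 2 =
      appV [img 0 / 2, img 1 / 2, img 2 / 2, img 3 / 2, img 4 / 2, img 5 / 2] (x / 2) := by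
  generalize hM : [img 0 / 2, img 1 / 2, img 2 / 2, img 3 / 2, img 4 / 2, img 5 / 2] = M
  have hg : ∀ i < 7, (bif Nat.beq i 6 then 1 else img i) < 128 ∧
      appV M (genQ i / 2) = (bif Nat.beq i 6 then 1 else img i) / 2 := by
    intro i hi
    subst hM
    by_cases h6 : i = 6
    · subst h6
      exact ⟨by show 1 < 128; omega, by
        rw [show genQ 6 / 2 = 0 from rfl, appV_zero]
        exact (show (1 / 2 : ℕ) = 0 from Nat.div_eq_of_lt (by omega)).symm⟩
    have hb : (bif Nat.beq i 6 then 1 else img i) = img i := by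
      rw [show Nat.beq i 6 = false from Bool.eq_false_iff.2 fun h => h6 (Nat.eq_of_beq_eq_true h)]
      rfl
    rw [hb]
    refine ⟨himg i (by omega), ?_⟩
    interval_cases i <;>
      simp [appV, genQ, show ∀ a b : ℕ, Nat.mul a b = a * b from fun _ _ => rfl,
        show ∀ a b : ℕ, Nat.mod a b = a % b from fun _ _ => rfl,
        show ∀ a b : ℕ, Nat.div a b = a / b from fun _ _ => rfl,
        show ∀ a b : ℕ, Nat.xor a b = a ^^^ b from fun _ _ => rfl] at h6 ⊢
  have key : ∀ w : List ℕ, (∀ i ∈ w, i ≤ 6) → ∀ r r', r < 128 → r' < 128 →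
      appV M (r' / 2) = r / 2 →
      (w.foldl (fun r i => mulQ r (bif Nat.beq i 6 then 1 else img i)) r) / 2 =
        appV M (Frame.mulWord r' w / 2) := by
    intro w
    induction w with
    | nil => intro _ r r' _ _ h; exact h.symm
    | cons a w ih =>
      intro hw r r' hr hr' h
      obtain ⟨ha, hw⟩ := List.forall_mem_cons.1 hw
      obtain ⟨h1, h2⟩ := hg a (by omega)
      have hga := Frame.genQ_facts a ha
      refine ih hw _ (mulQ r' (genQ a)) (Frame.word_facts r hr _ h1).2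
        (Frame.word_facts r' hr' _ hga).2 ?_
      rw [half_mulQ r' hr' _ hga, half_mulQ r hr _ h1]
      exact (appV_xor M _ _).trans (by rw [h, h2]; rfl)
  have := key (qword x) (Frame.word_lt x hx).1 0 0 (by omega) (by omega) (by simp [appV_zero])
  rw [(Frame.word_lt x hx).2] at this
  exact this

theorem adjust_check : ∀ d < 64, ∃ c < 128, ∀ i < 6,
    mulQ c (genQ i) = Nat.xor (mulQ (genQ i) c) (bitN d i) := by decide +kernel

theorem commutator_code : ∀ c < 128, ∀ d < 128,
    mulQ c d = Nat.xor (mulQ d c) (bF (c / 2) (d / 2)) ∧ bF (c / 2) (d / 2) ≤ 1 := by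
  decide +kernel

theorem square_code : ∀ c < 128, mulQ c c = qF (c / 2) := by decide +kernel

theorem half_xor : ∀ c < 128, ∀ d < 128, c / 2 = d / 2 → Nat.xor c d ≤ 1 ∧
    Nat.xor d (Nat.xor c d) = c := by decide +kernel

theorem xor_cancel_half : ∀ c < 128, ∀ x < 128, ∀ y < 128,
    mulQ y c = mulQ c x → y / 2 = x / 2 := by
  intro c hc x hx y hy h
  have h' := congrArg (· / 2) h
  simp only [half_mulQ y hy c hc, half_mulQ c hc x hx] at h'
  have h'' : (y / 2) ^^^ (c / 2) = (c / 2) ^^^ (x / 2) := h'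
  rw [Nat.xor_comm (c / 2)] at h''
  simpa [Nat.xor_assoc] using congrArg (· ^^^ (c / 2)) h''

/-- A normal extraspecial subgroup `2^{1+6}` of plus type containing its centraliser. -/
structure Shape (P : Type*) [Group P] where
  /-- the subgroup -/
  Q : Subgroup P
  normal : Q.Normal
  card : Nat.card Q = 128
  cent : Subgroup.centralizer (Q : Set P) ≤ Q
  /-- its frame -/
  F : Frame P
  z_mem : F.z ∈ Q
  e_mem : ∀ i < 6, F.e i ∈ Q

namespace Shape

variable {P : Type*} [Group P] [Finite P] (S : Shape P)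

theorem ι_mem (x : ℕ) : S.F.ι x ∈ S.Q := S.F.mem_of_gen S.z_mem S.e_mem x

open Classical in
/-- The code of an element of the subgroup. -/
noncomputable def code (g : P) : ℕ :=
  if h : ∃ x < 128, S.F.ι x = g then h.choose else 0

theorem code_spec {g : P} (hg : g ∈ S.Q) : S.code g < 128 ∧ S.F.ι (S.code g) = g := by
  have h := S.F.exists_code S.z_mem S.e_mem S.card hg
  rw [code, dif_pos h]
  exact h.choose_spec

theorem code_ι {x : ℕ} (hx : x < 128) : S.code (S.F.ι x) = x :=
  S.F.ι_inj (S.code_spec (S.ι_mem x)).1 hx (S.code_spec (S.ι_mem x)).2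

theorem conj_mem (g : P) {h : P} (hh : h ∈ S.Q) : g * h * g⁻¹ ∈ S.Q := S.normal.conj_mem h hh g

theorem ι_xor_one {x : ℕ} (hx : x < 128) : S.F.ι (Nat.xor x 1) = S.F.ι x * S.F.z := by
  rw [← (Frame.xor_one x hx).1, S.F.ι_mul hx (by omega), S.F.ι_one]

theorem z_code {h : P} (hh : h ∈ S.Q) (hc : ∀ i < 6, h * S.F.e i = S.F.e i * h) :
    h = 1 ∨ h = S.F.z := by
  obtain ⟨x, hx, rfl⟩ := S.F.exists_code S.z_mem S.e_mem S.card hh
  rcases Nat.lt_or_ge x 2 with h2 | h2
  · interval_cases x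
    · exact Or.inl S.F.ι_zero
    · exact Or.inr S.F.ι_one
  · exfalso
    obtain ⟨i, hi, he⟩ := Frame.odd_bit x hx h2
    have hg := Frame.genQ_facts i (by omega)
    have h3 := hc i hi
    rw [show S.F.e i = S.F.ι (genQ i) by
      rw [S.F.ι_gen (by omega), show S.F.gen i = S.F.e i from if_neg (by omega)],
      ← S.F.ι_mul hx hg, ← S.F.ι_mul hg hx, he, S.ι_xor_one (Frame.word_facts _ hg x hx).2] at h3
    exact S.F.z_ne (by simpa using h3)

theorem e_eq {i : ℕ} (hi : i < 6) : S.F.e i = S.F.ι (genQ i) := by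
  rw [S.F.ι_gen (by omega), show S.F.gen i = S.F.e i from if_neg (by omega)]

theorem mem_cent {g : P} (hc : ∀ i < 6, g * S.F.e i = S.F.e i * g)
    (hz : g * S.F.z = S.F.z * g) : g = 1 ∨ g = S.F.z := by
  refine S.z_code (S.cent ?_) hc
  rw [Subgroup.mem_centralizer_iff]
  intro h hh
  obtain ⟨x, -, rfl⟩ := S.F.exists_code S.z_mem S.e_mem S.card hh
  have : S.F.ι x ∈ Subgroup.centralizer ({g} : Set P) :=
    S.F.mem_of_gen (Subgroup.mem_centralizer_singleton_iff.2 hz.symm)
      (fun i hi => Subgroup.mem_centralizer_singleton_iff.2 (hc i hi).symm) x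
  exact Subgroup.mem_centralizer_singleton_iff.1 this

theorem z_central (g : P) : g * S.F.z = S.F.z * g := by
  have hmem := S.conj_mem g S.z_mem
  have hc : ∀ i < 6, g * S.F.z * g⁻¹ * S.F.e i = S.F.e i * (g * S.F.z * g⁻¹) := by
    intro i hi
    have hm : g⁻¹ * S.F.e i * g⁻¹⁻¹ ∈ S.Q := S.conj_mem _ (S.e_mem i hi)
    obtain ⟨x, -, hx⟩ := S.F.exists_code S.z_mem S.e_mem S.card hm
    have hcm : Commute S.F.z (g⁻¹ * S.F.e i * g⁻¹⁻¹) := by
      rw [← hx]
      exact ((Commute.refl S.F.z).pow_right _).mul_right (S.F.commute_partB _) |>.mul_right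
        (S.F.commute_partA _)
    have := congrArg (fun y => g * y * g⁻¹) hcm.eq
    simpa [mul_assoc] using this
  rcases S.z_code hmem hc with h | h
  · exact absurd (by simpa using h) S.F.z_ne
  · rwa [mul_inv_eq_iff_eq_mul] at h

/-- The code of a conjugate of a frame element. -/
noncomputable def cj (g : P) (i : ℕ) : ℕ := S.code (g * S.F.e i * g⁻¹)

theorem cj_spec (g : P) {i : ℕ} (hi : i < 6) :
    S.cj g i < 128 ∧ S.F.ι (S.cj g i) = g * S.F.e i * g⁻¹ :=
  S.code_spec (S.conj_mem g (S.e_mem i hi))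

theorem conj_ι (g : P) {x : ℕ} (hx : x < 128) :
    g * S.F.ι x * g⁻¹ = S.F.ι (extQ (S.cj g) x) ∧ extQ (S.cj g) x < 128 := by
  have h := S.F.extQ_eq S.F (S.cj g) (fun i hi => (S.cj_spec g hi).1)
    (φ := (MulAut.conj g).toMonoidHom) ?_ ?_ hx
  · exact h
  · show g * S.F.z * g⁻¹ = S.F.z
    rw [S.z_central, mul_inv_cancel_right]
  · exact fun i hi => (S.cj_spec g hi).2.symm

/-- The images of the basis of the quotient. -/
noncomputable def vM (g : P) : List ℕ :=
  [S.cj g 0 / 2, S.cj g 1 / 2, S.cj g 2 / 2, S.cj g 3 / 2, S.cj g 4 / 2, S.cj g 5 / 2]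

/-- The action on the quotient. -/
noncomputable def act (g : P) (v : ℕ) : ℕ := appV (S.vM g) v

theorem act_eq (g : P) {x : ℕ} (hx : x < 128) {y : ℕ} (hy : y < 128)
    (h : g * S.F.ι x * g⁻¹ = S.F.ι y) : S.act g (x / 2) = y / 2 := by
  obtain ⟨h1, h2⟩ := S.conj_ι g hx
  rw [S.F.ι_inj hy h2 (h.symm.trans h1), act, vM]
  exact (extQ_half (fun i hi => (S.cj_spec g hi).1) hx).symm

theorem act_lt (g : P) {v : ℕ} (hv : v < 64) : S.act g v < 64 := by
  obtain ⟨h1, h2⟩ := S.conj_ι g (show 2 * v < 128 by omega)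
  have := S.act_eq g (show 2 * v < 128 by omega) h2 h1
  rw [Nat.mul_div_cancel_left v two_pos] at this
  omega

theorem act_mul (g h : P) {v : ℕ} (hv : v < 64) : S.act (g * h) v = S.act g (S.act h v) := by
  have hx : 2 * v < 128 := by omega
  obtain ⟨h1, h2⟩ := S.conj_ι h hx
  obtain ⟨h3, h4⟩ := S.conj_ι g h2
  have e1 := S.act_eq h hx h2 h1
  have e2 := S.act_eq g h2 h4 h3
  have e3 := S.act_eq (g * h) hx h4 (by rw [← h3, ← h1]; group)
  rw [Nat.mul_div_cancel_left v two_pos] at e1 e3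
  rw [e3, e1, e2]

theorem act_of_mem {q : P} (hq : q ∈ S.Q) {v : ℕ} (hv : v < 64) : S.act q v = v := by
  have hx : 2 * v < 128 := by omega
  obtain ⟨c, hc, rfl⟩ := S.F.exists_code S.z_mem S.e_mem S.card hq
  obtain ⟨h1, h2⟩ := S.conj_ι (S.F.ι c) hx
  have e1 := S.act_eq _ hx h2 h1
  rw [Nat.mul_div_cancel_left v two_pos] at e1
  rw [e1]
  have h3 : mulQ (extQ (S.cj (S.F.ι c)) (2 * v)) c = mulQ c (2 * v) := by
    apply S.F.ι_inj (Frame.word_facts _ h2 c hc).2 (Frame.word_facts c hc _ hx).2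
    rw [S.F.ι_mul h2 hc, S.F.ι_mul hc hx, ← h1, inv_mul_cancel_right]
  rw [xor_cancel_half c hc _ hx _ h2 h3, Nat.mul_div_cancel_left v two_pos]

theorem exists_adjust (g : P) {T : ℕ → ℕ} (hT : ∀ i < 6, T i < 128)
    (h : ∀ i < 6, T i / 2 = S.cj g i / 2) :
    ∃ q ∈ S.Q, ∀ i < 6, g * q * S.F.e i * (g * q)⁻¹ = S.F.ι (T i) := by
  set d : ℕ → ℕ := fun i => Nat.xor (T i) (S.cj g i) with hd
  have hd1 : ∀ i < 6, d i ≤ 1 ∧ Nat.xor (S.cj g i) (d i) = T i := fun i hi =>
    half_xor _ (hT i hi) _ (S.cj_spec g hi).1 (h i hi)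
  set n := d 0 + 2 * d 1 + 4 * d 2 + 8 * d 3 + 16 * d 4 + 32 * d 5 with hn
  have hb : ∀ i < 6, bitN n i = d i := by
    intro i hi
    have := (hd1 0 (by omega)).1; have := (hd1 1 (by omega)).1; have := (hd1 2 (by omega)).1
    have := (hd1 3 (by omega)).1; have := (hd1 4 (by omega)).1; have := (hd1 5 (by omega)).1
    show Nat.mod (Nat.shiftRight n i) 2 = d i
    rw [show Nat.shiftRight n i = n / 2 ^ i from Nat.shiftRight_eq_div_pow n i]
    show n / 2 ^ i % 2 = d i
    interval_cases i <;> omega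
  have hn64 : n < 64 := by
    have := (hd1 0 (by omega)).1; have := (hd1 1 (by omega)).1; have := (hd1 2 (by omega)).1
    have := (hd1 3 (by omega)).1; have := (hd1 4 (by omega)).1; have := (hd1 5 (by omega)).1
    omega
  obtain ⟨c, hc, hcc⟩ := adjust_check n hn64
  refine ⟨S.F.ι c, S.ι_mem c, fun i hi => ?_⟩
  have hg := Frame.genQ_facts i (by omega)
  have hcon : S.F.ι c * S.F.e i * (S.F.ι c)⁻¹ = S.F.z ^ d i * S.F.e i := by
    rw [S.e_eq hi, ← S.F.ι_mul hc hg, hcc i hi, hb i hi]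
    rcases Nat.le_one_iff_eq_zero_or_eq_one.1 (hd1 i hi).1 with h0 | h0 <;> rw [h0]
    · rw [show Nat.xor (mulQ (genQ i) c) 0 = mulQ (genQ i) c from Nat.xor_zero _, S.F.ι_mul hg hc]
      simp
    · rw [S.ι_xor_one (Frame.word_facts _ hg c hc).2, S.F.ι_mul hg hc, mul_assoc _ (S.F.ι c),
        ← (S.z_central (S.F.ι c)).symm, ← mul_assoc, mul_inv_cancel_right, pow_one,
        S.z_central]
  calc g * S.F.ι c * S.F.e i * (g * S.F.ι c)⁻¹
      = g * (S.F.ι c * S.F.e i * (S.F.ι c)⁻¹) * g⁻¹ := by group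
    _ = S.F.z ^ d i * (g * S.F.e i * g⁻¹) := by
      rw [hcon, ← mul_assoc, ((show Commute g S.F.z from S.z_central g).pow_right (d i)).eq]
      simp only [mul_assoc]
    _ = S.F.ι (T i) := by
      rw [← (S.cj_spec g hi).2, ← (hd1 i hi).2]
      rcases Nat.le_one_iff_eq_zero_or_eq_one.1 (hd1 i hi).1 with h0 | h0 <;> rw [h0]
      · rw [show Nat.xor (S.cj g i) 0 = S.cj g i from Nat.xor_zero _]; simp
      · rw [S.ι_xor_one (S.cj_spec g hi).1, pow_one, S.z_central]

theorem mem_of_act {g : P} (h : ∀ i < 6, S.act g (2 ^ i) = 2 ^ i) : g ∈ S.Q := by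
  obtain ⟨q, hq, hqc⟩ := S.exists_adjust g (T := genQ) (fun i hi => Frame.genQ_facts i (by omega))
    fun i hi => by
      have h1 := S.act_eq g (Frame.genQ_facts i (by omega)) (S.cj_spec g hi).1
        (by rw [← S.e_eq hi]; exact (S.cj_spec g hi).2.symm)
      rw [show genQ i / 2 = 2 ^ i by interval_cases i <;> rfl, h i hi] at h1
      rw [← h1]
      interval_cases i <;> rfl
  have hmem : g * q ∈ S.Q := by
    rcases S.mem_cent (g := g * q) (fun i hi => by
      have := hqc i hi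
      rw [← S.e_eq hi, mul_inv_eq_iff_eq_mul] at this
      exact this) (S.z_central _) with h0 | h0 <;> rw [h0]
    · exact one_mem _
    · exact S.z_mem
  simpa using mul_mem hmem (inv_mem hq)

theorem sing_mem : ∀ v < 64, qF v = 0 → v ∈ sing := by decide +kernel

theorem vM_facts (g : P) : (∀ i < 6, S.cj g i / 2 ∈ sing) ∧
    ∀ i < 6, ∀ j < 6, bF (S.cj g i / 2) (S.cj g j / 2) = want i j := by
  refine ⟨fun i hi => ?_, fun i hi j hj => ?_⟩
  · obtain ⟨h1, h2⟩ := S.cj_spec g hi
    refine sing_mem _ (by omega) ?_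
    rw [← square_code _ h1]
    refine S.F.ι_inj (Frame.word_facts _ h1 _ h1).2 (by omega) ?_
    rw [S.F.ι_mul h1 h1, h2, S.F.ι_zero]
    calc g * S.F.e i * g⁻¹ * (g * S.F.e i * g⁻¹) = g * (S.F.e i * S.F.e i) * g⁻¹ := by group
      _ = 1 := by rw [S.F.e_sq i hi]; group
  · obtain ⟨hci, hι⟩ := S.cj_spec g hi
    obtain ⟨hcj, hιj⟩ := S.cj_spec g hj
    obtain ⟨hcom, hle⟩ := commutator_code _ hci _ hcj
    have hlt := (Frame.word_facts _ hcj _ hci).2
    have h1 : S.F.ι (mulQ (S.cj g i) (S.cj g j)) =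
        S.F.z ^ want i j * S.F.ι (mulQ (S.cj g j) (S.cj g i)) := by
      rw [S.F.ι_mul hci hcj, S.F.ι_mul hcj hci, hι, hιj]
      calc g * S.F.e i * g⁻¹ * (g * S.F.e j * g⁻¹) = g * (S.F.e i * S.F.e j) * g⁻¹ := by group
        _ = S.F.z ^ want i j * (g * (S.F.e j * S.F.e i) * g⁻¹) := by
          rw [S.F.e_comm i hi j hj, ← mul_assoc g,
            ((show Commute g S.F.z from S.z_central g).pow_right _).eq]
          simp only [mul_assoc]
        _ = _ := by group
    rw [hcom] at h1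
    have hwant : want i j ≤ 1 := by unfold want; split <;> omega
    generalize bF (S.cj g i / 2) (S.cj g j / 2) = p at hle h1 ⊢
    generalize want i j = w at hwant h1 ⊢
    interval_cases p <;> interval_cases w <;> try rfl
    · rw [show Nat.xor (mulQ (S.cj g j) (S.cj g i)) 0 = mulQ (S.cj g j) (S.cj g i) from
        Nat.xor_zero _, pow_one] at h1
      exact absurd (by simpa using h1) S.F.z_ne
    · rw [S.ι_xor_one hlt, pow_zero, one_mul] at h1
      exact absurd (by simpa using h1) S.F.z_ne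

theorem isoAll_apply (g : P) {starts : List ℕ} {p : List ℕ → Bool} (h : isoAll starts p = true)
    (hs : S.cj g 0 / 2 ∈ starts) : p (S.vM g) = true := by
  obtain ⟨hsing, hb⟩ := S.vM_facts g
  have b : ∀ i j k : ℕ, i < 6 → j < 6 → want i j = k →
      Nat.beq (bF (S.cj g i / 2) (S.cj g j / 2)) k = true := fun i j k hi hj hk => by
    rw [hb i hi j hj, hk]; exact Nat.beq_refl _
  unfold isoAll at h
  simp only [List.all_eq_true, List.mem_filter, Bool.and_eq_true, and_imp] at h
  exact h _ hs (S.cj g 1 / 2) (hsing 1 (by omega)) (b 0 1 0 (by omega) (by omega) rfl)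
    (S.cj g 2 / 2) (hsing 2 (by omega)) (b 0 2 0 (by omega) (by omega) rfl)
    (b 1 2 0 (by omega) (by omega) rfl)
    (S.cj g 3 / 2) (hsing 3 (by omega)) (b 0 3 1 (by omega) (by omega) rfl)
    (b 1 3 0 (by omega) (by omega) rfl) (b 2 3 0 (by omega) (by omega) rfl)
    (S.cj g 4 / 2) (hsing 4 (by omega)) (b 0 4 0 (by omega) (by omega) rfl)
    (b 1 4 1 (by omega) (by omega) rfl) (b 2 4 0 (by omega) (by omega) rfl)
    (b 3 4 0 (by omega) (by omega) rfl)
    (S.cj g 5 / 2) (hsing 5 (by omega)) (b 0 5 0 (by omega) (by omega) rfl)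
    (b 1 5 0 (by omega) (by omega) rfl) (b 2 5 1 (by omega) (by omega) rfl)
    (b 3 5 0 (by omega) (by omega) rfl) (b 4 5 0 (by omega) (by omega) rfl)

end Shape

end Cfsg.Lib.HeldType.CentShape
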