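import Cfsg.Agent.Lib.HeldType.CentShape.Iso.Chk0
import Cfsg.Agent.Lib.HeldType.CentShape.Iso.Chk1
import Cfsg.Agent.Lib.HeldType.CentShape.Iso.Chk2
import Cfsg.Agent.Lib.HeldType.CentShape.Iso.Chk3
import Cfsg.Agent.Lib.HeldType.CentShape.Iso.Chk4
import Cfsg.Agent.Lib.HeldType.CentShape.Iso.Chk5
import Cfsg.Agent.Lib.HeldType.CentShape.Iso.Chk6

/-!
# The two modules of `L₃(2)` of dimension six with an invariant form of plus type

With a suitable frame, generators of the quotient act as one of two pairs of model maps.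
-/

set_option autoImplicit false
set_option linter.unusedSectionVars false

namespace Cfsg.Lib.HeldType.CentShape

open Frame (extQ)

/-- The nonzero singular vectors. -/
def starts : List ℕ := sing.filter fun v => !Nat.beq v 0

theorem starts_eq : starts = [1, 2, 3, 4, 5, 6, 7, 8, 10, 12, 14, 16, 17, 20, 21, 24, 27, 28, 31,
    32, 33, 34, 35, 40, 42, 45, 47, 48, 49, 54, 55, 56, 59, 61, 62] := by decide +kernel

namespace Shape

variable {P : Type*} [Group P] [Finite P] (S : Shape P)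

theorem act_basis (g : P) {i : ℕ} (hi : i < 6) : S.act g (2 ^ i) = S.cj g i / 2 := by
  have h := S.act_eq g (Frame.genQ_facts i (by omega)) (S.cj_spec g hi).1
    (by rw [← S.e_eq hi]; exact (S.cj_spec g hi).2.symm)
  rwa [show genQ i / 2 = 2 ^ i by interval_cases i <;> rfl] at h

theorem vM_getD (g : P) {i : ℕ} (hi : i < 6) : (S.vM g).getD i 0 = S.cj g i / 2 := by
  interval_cases i <;> rfl

theorem act_pow (g : P) (n : ℕ) :
    ∀ {v : ℕ}, v < 64 → S.act (g ^ n) v = iterV (S.vM g) n v := by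
  induction n with
  | zero => intro v hv; rw [pow_zero, S.act_of_mem (one_mem _) hv]; rfl
  | succ n ih =>
    intro v hv
    rw [pow_succ, S.act_mul _ _ hv, ih (S.act_lt g hv)]
    rfl

theorem basis_pow : ∀ b ∈ basis6, ∃ i < 6, b = 2 ^ i := by decide

theorem vM_ext {g : P} {T : List ℕ} (hT : T.length = 6)
    (h : ∀ i < 6, S.act g (2 ^ i) = T.getD i 0) : S.vM g = T := by
  have h' : ∀ i < 6, S.cj g i / 2 = T.getD i 0 := fun i hi => (S.act_basis g hi).symm.trans (h i hi)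
  obtain ⟨t0, t1, t2, t3, t4, t5, rfl⟩ : ∃ t0 t1 t2 t3 t4 t5, T = [t0, t1, t2, t3, t4, t5] := by
    match T, hT with
    | [t0, t1, t2, t3, t4, t5], _ => exact ⟨_, _, _, _, _, _, rfl⟩
  rw [vM, h' 0 (by omega), h' 1 (by omega), h' 2 (by omega), h' 3 (by omega), h' 4 (by omega),
    h' 5 (by omega)]
  rfl

theorem checks (g : P) : (∃ W, okC W (S.vM g) = true) ∧ okA Iso.wA (S.vM g) = true := by
  suffices h : ∃ W, (okC W (S.vM g) && okA Iso.wA (S.vM g)) = true by
    obtain ⟨W, hW⟩ := h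
    rw [Bool.and_eq_true] at hW
    exact ⟨⟨W, hW.1⟩, hW.2⟩
  obtain ⟨h1, -⟩ := S.vM_facts g
  have hmem : S.cj g 0 / 2 ∈ starts := by
    refine List.mem_filter.2 ⟨h1 0 (by omega), ?_⟩
    rw [Bool.not_eq_true']
    refine Bool.eq_false_iff.2 fun h0 => ?_
    have h3 := (S.vM_facts g).2 0 (by omega) 3 (by omega)
    rw [Nat.eq_of_beq_eq_true h0] at h3
    have hb : ∀ w < 64, bF 0 w = 0 := by decide +kernel
    rw [hb _ (by have := (S.cj_spec g (i := 3) (by omega)).1; omega)] at h3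
    exact absurd h3 (by decide)
  have k : ∀ v W, isoAll [v] (fun M => okC W M && okA Iso.wA M) = true → S.cj g 0 / 2 = v →
      ∃ W, (okC W (S.vM g) && okA Iso.wA (S.vM g)) = true := fun v W hv hg =>
    ⟨W, S.isoAll_apply g hv (by simp [hg])⟩
  rw [starts_eq] at hmem
  simp only [List.mem_cons, List.not_mem_nil, or_false] at hmem
  rcases hmem with h | h | h | h | h | h | h | h | h | h | h | h | h | h | h | h | h | h | h | h | h |
    h | h | h | h | h | h | h | h | h | h | h | h | h | h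
  exacts [k _ _ Iso.check1 h, k _ _ Iso.check2 h, k _ _ Iso.check3 h, k _ _ Iso.check4 h,
    k _ _ Iso.check5 h, k _ _ Iso.check6 h, k _ _ Iso.check7 h, k _ _ Iso.check8 h,
    k _ _ Iso.check10 h, k _ _ Iso.check12 h, k _ _ Iso.check14 h, k _ _ Iso.check16 h,
    k _ _ Iso.check17 h, k _ _ Iso.check20 h, k _ _ Iso.check21 h, k _ _ Iso.check24 h,
    k _ _ Iso.check27 h, k _ _ Iso.check28 h, k _ _ Iso.check31 h, k _ _ Iso.check32 h,
    k _ _ Iso.check33 h, k _ _ Iso.check34 h, k _ _ Iso.check35 h, k _ _ Iso.check40 h,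
    k _ _ Iso.check42 h, k _ _ Iso.check45 h, k _ _ Iso.check47 h, k _ _ Iso.check48 h,
    k _ _ Iso.check49 h, k _ _ Iso.check54 h, k _ _ Iso.check55 h, k _ _ Iso.check56 h,
    k _ _ Iso.check59 h, k _ _ Iso.check61 h, k _ _ Iso.check62 h]

theorem exists_reframe {f : List ℕ} (hf : goodF f = true) :
    ∃ S' : Shape P, S'.Q = S.Q ∧ S'.F.z = S.F.z ∧ ∀ (g : P) (T : List ℕ),
      (∀ i < 6, T.getD i 0 < 64 ∧ S.act g (f.getD i 0) = appV f (T.getD i 0)) → f.length = 6 →
      ∀ i < 6, S'.act g (2 ^ i) = T.getD i 0 := by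
  simp only [goodF, List.all_eq_true, List.mem_range, Bool.and_eq_true] at hf
  have hlt : ∀ i < 6, f.getD i 0 < 64 := fun i hi => Nat.le_of_ble_eq_true (hf i hi).1.1
  set img : ℕ → ℕ := fun i => 2 * f.getD i 0 with himg
  have hi2 : ∀ i < 6, img i < 128 ∧ img i / 2 = f.getD i 0 := fun i hi => by
    have := hlt i hi
    simp only [himg]; omega
  let F' : Frame P :=
    { z := S.F.z
      e := fun i => S.F.ι (img i)
      z_ne := S.F.z_ne
      z_sq := S.F.z_sq
      comm_z := fun i _ => (S.z_central (S.F.ι (img i))).symm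
      e_sq := fun i hi => by
        obtain ⟨h1, h2⟩ := hi2 i hi
        rw [← S.F.ι_mul h1 h1, square_code _ h1, h2, Nat.eq_of_beq_eq_true (hf i hi).1.2, S.F.ι_zero]
      e_comm := fun i hi j hj => by
        obtain ⟨h1, h2⟩ := hi2 i hi
        obtain ⟨h3, h4⟩ := hi2 j hj
        rw [← S.F.ι_mul h1 h3, ← S.F.ι_mul h3 h1, (commutator_code _ h1 _ h3).1, h2, h4,
          Nat.eq_of_beq_eq_true ((hf i hi).2 j hj)]
        have hwant : want i j ≤ 1 := by unfold want; split <;> omega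
        rcases Nat.le_one_iff_eq_zero_or_eq_one.1 hwant with h0 | h0 <;> rw [h0]
        · rw [show Nat.xor (mulQ (img j) (img i)) 0 = mulQ (img j) (img i) from Nat.xor_zero _]
          simp
        · rw [S.ι_xor_one (Frame.word_facts _ h3 _ h1).2, pow_one, S.z_central] }
  refine ⟨⟨S.Q, S.normal, S.card, S.cent, F', S.z_mem, fun i _ => S.ι_mem _⟩, rfl, rfl,
    fun g T hT hlen i hi => ?_⟩
  set S' : Shape P := ⟨S.Q, S.normal, S.card, S.cent, F', S.z_mem, fun i _ => S.ι_mem _⟩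
  have hι : ∀ x < 128, S'.F.ι x = S.F.ι (extQ img x) ∧ extQ img x < 128 := fun x hx =>
    F'.extQ_eq S.F img (fun j hj => (hi2 j hj).1) (φ := MonoidHom.id P) rfl (fun _ _ => rfl) hx
  have hhalf : ∀ x < 128, extQ img x / 2 = appV f (x / 2) := fun x hx => by
    rw [extQ_half (fun j hj => (hi2 j hj).1) hx, (hi2 0 (by omega)).2, (hi2 1 (by omega)).2,
      (hi2 2 (by omega)).2, (hi2 3 (by omega)).2, (hi2 4 (by omega)).2, (hi2 5 (by omega)).2]
    congr 1
    match f, hlen with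
    | [_, _, _, _, _, _], _ => rfl
  obtain ⟨hy, hyι⟩ := S'.cj_spec g hi
  rw [S'.act_basis g hi]
  obtain ⟨hu, hu'⟩ := hι (S'.cj g i) hy
  have h1 := S.act_eq g (hi2 i hi).1 hu' (by rw [← hu, hyι])
  rw [(hi2 i hi).2, (hT i hi).2, hhalf _ hy] at h1
  have h2 : extQ img (2 * T.getD i 0) / 2 = extQ img (S'.cj g i) / 2 := by
    have := (hT i hi).1
    rw [hhalf _ (by omega), hhalf _ hy, Nat.mul_div_cancel_left _ two_pos, h1]
  have ht : 2 * T.getD i 0 < 128 := by have := (hT i hi).1; omega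
  obtain ⟨hle, hx⟩ := half_xor _ (hι _ ht).2 _ hu' h2
  rcases Nat.le_one_iff_eq_zero_or_eq_one.1 hle with h0 | h0 <;> rw [h0] at hx
  · rw [show Nat.xor (extQ img (S'.cj g i)) 0 = extQ img (S'.cj g i) from Nat.xor_zero _] at hx
    have := S'.F.ι_inj hy ht (by rw [hu, (hι _ ht).1, hx])
    omega
  · obtain ⟨e1, e2⟩ := Frame.xor_one _ hy
    have := S'.F.ι_inj e2 ht (by rw [S'.ι_xor_one hy, hu, (hι _ ht).1, ← hx, S.ι_xor_one hu'])
    have e3 : ∀ y < 128, Nat.xor y 1 / 2 = y / 2 := by decide +kernel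
    have := e3 _ hy
    omega

theorem unpack_length (n : ℕ) : (unpack n).length = 6 := rfl

/-- With a suitable frame the generators act as the models. -/
theorem exists_std {a c : P} (h7 : c ^ 7 ∈ S.Q) (hc : c ∉ S.Q) (ha : a * a ∈ S.Q)
    (h3 : a * c * (a * c) * (a * c) ∈ S.Q)
    (h4 : a * c * a * c ^ 6 * (a * c * a * c ^ 6) * (a * c * a * c ^ 6) * (a * c * a * c ^ 6) ∈ S.Q)
    (hgen : Subgroup.closure ((S.Q : Set P) ∪ {a, c}) = ⊤) :
    ∃ (S' : Shape P) (c' : P), S'.Q = S.Q ∧ S'.F.z = S.F.z ∧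
      Subgroup.closure ((S'.Q : Set P) ∪ {a, c'}) = ⊤ ∧ S'.vM c' = mC ∧
      (S'.vM a = mS ∨ S'.vM a = mU) := by
  have h7' : seven (S.vM c) = true := by
    simp only [seven, Bool.and_eq_true, List.all_eq_true, Bool.not_eq_true']
    refine ⟨fun b hb => ?_, Bool.eq_false_iff.2 fun h => hc (S.mem_of_act fun i hi => ?_)⟩
    · obtain ⟨i, hi, rfl⟩ := basis_pow b hb
      have h64 : 2 ^ i < 64 := by interval_cases i <;> omega
      rw [← S.act_pow c 7 h64, S.act_of_mem h7 h64]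
      exact Nat.beq_refl _
    · exact Nat.eq_of_beq_eq_true (List.all_eq_true.1 h _ (by interval_cases i <;> decide))
  obtain ⟨⟨W, hW⟩, -⟩ := S.checks c
  simp only [okC, h7', Bool.not_true, Bool.false_or, List.any_eq_true, Bool.and_eq_true] at hW
  obtain ⟨w, -, -, hgood, hconj⟩ := hW
  simp only [conjOK, List.all_eq_true, List.mem_range] at hconj
  obtain ⟨S₁, hQ₁, hz₁, hact₁⟩ := S.exists_reframe hgood
  have hC₁ : S₁.vM c = mC := S₁.vM_ext rfl (hact₁ c mC (fun i hi =>
    ⟨by interval_cases i <;> decide, Nat.eq_of_beq_eq_true (hconj i hi)⟩) (unpack_length _))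
  have hrel : relA (S₁.vM a) = true := by
    have hstep : ∀ v < 64, commStep (S₁.vM a) v = S₁.act (a * c * a * c ^ 6) v := fun v hv => by
      have v6 := S₁.act_lt (c ^ 6) hv
      have va := S₁.act_lt a v6
      rw [S₁.act_mul _ _ hv, S₁.act_mul _ _ v6, S₁.act_mul _ _ va, S₁.act_pow c 6 hv, hC₁, commStep]
      unfold act
      rw [hC₁]
    simp only [relA, Bool.and_eq_true, List.all_eq_true]
    refine ⟨⟨fun b hb => ?_, fun b hb => ?_⟩, fun b hb => ?_⟩
    all_goals
      obtain ⟨i, hi, rfl⟩ := basis_pow b hb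
      have h64 : 2 ^ i < 64 := by interval_cases i <;> omega
      rw [Nat.beq_eq]
    · show S₁.act a (S₁.act a _) = _
      rw [← S₁.act_mul _ _ h64, S₁.act_of_mem (hQ₁.symm ▸ ha) h64]
    · have e : ∀ v, appV mC v = S₁.act c v := fun v => by rw [act, hC₁]
      rw [e, e, e]
      show S₁.act a (S₁.act c (S₁.act a (S₁.act c (S₁.act a (S₁.act c _))))) = _
      have b1 := S₁.act_lt c h64
      rw [← S₁.act_mul a c h64, ← S₁.act_mul a c (S₁.act_lt _ h64),
        ← S₁.act_mul (a * c) (a * c) h64, ← S₁.act_mul a c (S₁.act_lt _ h64),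
        ← S₁.act_mul (a * c) (a * c * (a * c)) h64, ← mul_assoc,
        S₁.act_of_mem (hQ₁.symm ▸ h3) h64]
    · generalize hu : a * c * a * c ^ 6 = u at hstep h4
      have b1 := S₁.act_lt u h64
      have b2 := S₁.act_lt u b1
      rw [hstep _ h64, hstep _ b1, hstep _ b2, hstep _ (S₁.act_lt u b2), ← S₁.act_mul u u b2,
        ← S₁.act_mul (u * u) u b1, ← S₁.act_mul (u * u * u) u h64,
        S₁.act_of_mem (hQ₁.symm ▸ h4) h64]
  obtain ⟨-, hA⟩ := S₁.checks a
  simp only [okA, hrel, Bool.not_true, Bool.false_or, List.any_eq_true, Bool.and_eq_true] at hA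
  obtain ⟨w, -, -, hgood, ⟨he, hce⟩, hmod⟩ := hA
  simp only [conjOK, List.all_eq_true, List.mem_range] at hce
  obtain ⟨S₂, hQ₂, hz₂, hact₂⟩ := S₁.exists_reframe hgood
  simp only [goodF, List.all_eq_true, List.mem_range, Bool.and_eq_true] at hgood
  have hf64 : ∀ i < 6, (unpack w.2.1).getD i 0 < 64 := fun i hi =>
    Nat.le_of_ble_eq_true (hgood i hi).1.1
  have hC₂ : S₂.vM (c ^ w.2.2) = mC := S₂.vM_ext rfl (hact₂ _ mC (fun i hi =>
    ⟨by interval_cases i <;> decide, by
      rw [S₁.act_pow c _ (hf64 i hi), hC₁]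
      exact Nat.eq_of_beq_eq_true (hce i hi)⟩) (unpack_length _))
  have hA₂ : ∀ T : List ℕ, T.length = 6 → (∀ i < 6, T.getD i 0 < 64) →
      conjOK (S₁.vM a) 1 (unpack w.2.1) T = true → S₂.vM a = T := fun T hT hT' h => by
    simp only [conjOK, List.all_eq_true, List.mem_range] at h
    exact S₂.vM_ext hT (hact₂ a T (fun i hi => ⟨hT' i hi, Nat.eq_of_beq_eq_true (h i hi)⟩)
      (unpack_length _))
  refine ⟨S₂, c ^ w.2.2, hQ₂.trans hQ₁, hz₂.trans hz₁, ?_, hC₂, ?_⟩
  · rw [hQ₂, hQ₁, eq_top_iff, ← hgen, Subgroup.closure_le]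
    rintro x (hx | rfl | rfl)
    · exact Subgroup.subset_closure (Or.inl hx)
    · exact Subgroup.subset_closure (Or.inr (Or.inl rfl))
    · have hmem : x ^ w.2.2 ∈ Subgroup.closure ((S.Q : Set P) ∪ {a, x ^ w.2.2}) :=
        Subgroup.subset_closure (Or.inr (Or.inr rfl))
      simp only [Bool.or_eq_true, Nat.beq_eq] at he
      rcases he with he | he <;> rw [he] at hmem ⊢
      · simpa using hmem
      · have h35 : (x ^ 7) ^ 5 ∈ Subgroup.closure ((S.Q : Set P) ∪ {a, x ^ 6}) :=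
          pow_mem (Subgroup.subset_closure (show x ^ 7 ∈ (S.Q : Set P) ∪ {a, x ^ 6} from Or.inl h7)) 5
        have := mul_mem (inv_mem h35) (pow_mem hmem 6)
        rwa [← pow_mul, ← pow_mul, show x ^ (6 * 6) = x ^ (7 * 5) * x from pow_succ x 35,
          inv_mul_cancel_left] at this
  · rcases Bool.or_eq_true _ _ |>.mp hmod with h | h
    · exact Or.inl (hA₂ mS rfl (fun i hi => by interval_cases i <;> decide) h)
    · exact Or.inr (hA₂ mU rfl (fun i hi => by interval_cases i <;> decide) h)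

end Shape

end Cfsg.Lib.HeldType.CentShape
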