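import Cfsg.Agent.Lib.PGroup.ExtraspecialClassify

/-!
# Codes for an extraspecial group `2^{1+6}` of plus type

The code of `z^c · B(b) · A(a)` is `c + 2a + 16b`; the code of the `i`-th frame element is `2 <<< i`.
-/

set_option autoImplicit false

namespace Cfsg.Lib.HeldType.CentShape

/-- Bit `i` of a number. -/
def bitN (v i : ℕ) : ℕ := Nat.mod (Nat.shiftRight v i) 2

/-- The dot product of three bit vectors. -/
def dot3 (v w : ℕ) : ℕ := Nat.mod (Nat.shiftRight 150 (Nat.land v w)) 2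

/-- The product of two codes. -/
def mulQ (x y : ℕ) : ℕ :=
  Nat.xor (Nat.xor x y) (dot3 (Nat.mod (Nat.div x 2) 8) (Nat.div y 16))

/-- The quadratic form on six bit vectors. -/
def qF (v : ℕ) : ℕ := dot3 (Nat.mod v 8) (Nat.div v 8)

/-- The bilinear form on six bit vectors. -/
def bF (v w : ℕ) : ℕ :=
  Nat.xor (dot3 (Nat.mod v 8) (Nat.div w 8)) (dot3 (Nat.mod w 8) (Nat.div v 8))

/-- The value of the form on two basis vectors. -/
def want (i j : ℕ) : ℕ := if i + 3 = j ∨ j + 3 = i then 1 else 0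

/-- The word of a code in the frame elements, the central one being `6`. -/
def qword (x : ℕ) : List ℕ :=
  ((List.cons 6 [3, 4, 5, 0, 1, 2]).filter fun i =>
    Nat.beq (Nat.mod (Nat.shiftRight x (Nat.mod (Nat.add i 1) 7)) 2) 1)

/-- The code of a letter. -/
def genQ (i : ℕ) : ℕ := if i = 6 then 1 else 2 * 2 ^ i

variable {P : Type*} [Group P]

/-- Six involutions with the symplectic commutation relations. -/
structure Frame (P : Type*) [Group P] where
  /-- the central element -/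
  z : P
  /-- the frame elements -/
  e : ℕ → P
  z_ne : z ≠ 1
  z_sq : z * z = 1
  comm_z : ∀ i < 6, Commute z (e i)
  e_sq : ∀ i < 6, e i * e i = 1
  e_comm : ∀ i < 6, ∀ j < 6, e i * e j = z ^ want i j * (e j * e i)

namespace Frame

variable (F : Frame P)

/-- The value of a letter. -/
def gen (i : ℕ) : P := if i = 6 then F.z else F.e i

/-- The `A`-part. -/
def partA (a : ℕ) : P := F.e 0 ^ bitN a 0 * F.e 1 ^ bitN a 1 * F.e 2 ^ bitN a 2

/-- The `B`-part. -/
def partB (b : ℕ) : P := F.e 3 ^ bitN b 0 * F.e 4 ^ bitN b 1 * F.e 5 ^ bitN b 2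

/-- The element with a given code. -/
def ι (x : ℕ) : P := F.z ^ bitN x 0 * F.partB (x / 16) * F.partA (x / 2 % 8)

theorem bitN_eq (v i : ℕ) : bitN v i = 0 ∨ bitN v i = 1 := by
  unfold bitN
  exact Nat.mod_two_eq_zero_or_one _

theorem z_pow_cases (n : ℕ) : F.z ^ n = F.z ^ (n % 2) := by
  conv_lhs => rw [← Nat.mod_add_div n 2, pow_add, pow_mul, sq, F.z_sq, one_pow, mul_one]

theorem e_pow_mul {i j : ℕ} (hi : i < 6) (hj : j < 6) (p : ℕ) (hp : p = 0 ∨ p = 1) :
    F.e j ^ p * F.e i = F.z ^ (p * want j i) * (F.e i * F.e j ^ p) := by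
  rcases hp with rfl | rfl
  · simp
  · simp [F.e_comm j hj i hi]

theorem bit_flip : ∀ a < 8, ∀ i < 3, ∀ j < 3,
    bitN (Nat.xor a (2 ^ i)) j = if i = j then 1 - bitN a j else bitN a j := by decide +kernel

/-- Three commuting involutions. -/
theorem flip_three {x y w : P} (hx : x * x = 1) (hy : y * y = 1) (hw : w * w = 1)
    (hxy : y * x = x * y) (hxw : w * x = x * w) (hyw : w * y = y * w) {p q r : ℕ}
    (hp : p = 0 ∨ p = 1) (hq : q = 0 ∨ q = 1) (hr : r = 0 ∨ r = 1) :
    x ^ p * y ^ q * w ^ r * x = x ^ (1 - p) * y ^ q * w ^ r ∧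
      x ^ p * y ^ q * w ^ r * y = x ^ p * y ^ (1 - q) * w ^ r ∧
      x ^ p * y ^ q * w ^ r * w = x ^ p * y ^ q * w ^ (1 - r) := by
  have hxy' : Commute y x := hxy
  have hxw' : Commute w x := hxw
  have hyw' : Commute w y := hyw
  have f : ∀ (u : P), u * u = 1 → ∀ n, n = 0 ∨ n = 1 → u ^ n * u = u ^ (1 - n) := by
    rintro u hu n (rfl | rfl) <;> simp [hu]
  refine ⟨?_, ?_, ?_⟩
  · rw [mul_assoc, (hxw'.pow_left r).eq, ← mul_assoc, mul_assoc (x ^ p), (hxy'.pow_left q).eq,
      ← mul_assoc, f x hx p hp]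
  · rw [mul_assoc, (hyw'.pow_left r).eq, ← mul_assoc, mul_assoc (x ^ p), f y hy q hq]
  · rw [mul_assoc, f w hw r hr]

theorem partA_mul {a i : ℕ} (ha : a < 8) (hi : i < 3) :
    F.partA a * F.e i = F.partA (Nat.xor a (2 ^ i)) := by
  have hc : ∀ k < 3, ∀ l < 3, F.e k * F.e l = F.e l * F.e k := fun k hk l hl => by
    have := F.e_comm k (by omega) l (by omega)
    rw [show want k l = 0 from if_neg (by omega)] at this
    simpa using this
  obtain ⟨h0, h1, h2⟩ := flip_three (F.e_sq 0 (by omega)) (F.e_sq 1 (by omega))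
    (F.e_sq 2 (by omega)) (hc 1 (by omega) 0 (by omega)) (hc 2 (by omega) 0 (by omega))
    (hc 2 (by omega) 1 (by omega)) (bitN_eq a 0) (bitN_eq a 1) (bitN_eq a 2)
  unfold partA
  rw [bit_flip a ha i hi 0 (by omega), bit_flip a ha i hi 1 (by omega),
    bit_flip a ha i hi 2 (by omega)]
  interval_cases i
  · simpa using h0
  · simpa using h1
  · simpa using h2

theorem partB_mul {a i : ℕ} (ha : a < 8) (hi : i < 3) :
    F.partB a * F.e (i + 3) = F.partB (Nat.xor a (2 ^ i)) := by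
  have hc : ∀ k < 3, ∀ l < 3, F.e (k + 3) * F.e (l + 3) = F.e (l + 3) * F.e (k + 3) :=
    fun k hk l hl => by
      have := F.e_comm (k + 3) (by omega) (l + 3) (by omega)
      rw [show want (k + 3) (l + 3) = 0 from if_neg (by omega)] at this
      simpa using this
  obtain ⟨h0, h1, h2⟩ := flip_three (F.e_sq 3 (by omega)) (F.e_sq 4 (by omega))
    (F.e_sq 5 (by omega)) (hc 1 (by omega) 0 (by omega)) (hc 2 (by omega) 0 (by omega))
    (hc 2 (by omega) 1 (by omega)) (bitN_eq a 0) (bitN_eq a 1) (bitN_eq a 2)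
  unfold partB
  rw [bit_flip a ha i hi 0 (by omega), bit_flip a ha i hi 1 (by omega),
    bit_flip a ha i hi 2 (by omega)]
  interval_cases i
  · simpa using h0
  · simpa using h1
  · simpa using h2

theorem partA_mul_b {a i : ℕ} (hi : i < 3) :
    F.partA a * F.e (i + 3) = F.z ^ bitN a i * (F.e (i + 3) * F.partA a) := by
  have h : ∀ j < 3, ∀ p, p = 0 ∨ p = 1 → ∀ r, F.e j ^ p * (F.e (i + 3) * r) =
      F.z ^ (p * want j (i + 3)) * (F.e (i + 3) * (F.e j ^ p * r)) := fun j hj p hp r => by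
    rw [← mul_assoc, F.e_pow_mul (by omega) (by omega) p hp, mul_assoc, mul_assoc]
  have hz : ∀ j < 6, ∀ p q r, F.e j ^ p * (F.z ^ q * r) = F.z ^ q * (F.e j ^ p * r) :=
    fun j hj p q r => by
      rw [← mul_assoc, ← (((F.comm_z j hj).pow_pow q p).eq), mul_assoc]
  have h0 : F.partA a * F.e (i + 3) =
      F.e 0 ^ bitN a 0 * (F.e 1 ^ bitN a 1 * (F.e 2 ^ bitN a 2 * (F.e (i + 3) * 1))) := by
    simp [partA, mul_assoc]
  rw [h0, h 2 (by omega) _ (bitN_eq a 2), hz 1 (by omega), h 1 (by omega) _ (bitN_eq a 1),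
    hz 0 (by omega), hz 0 (by omega), h 0 (by omega) _ (bitN_eq a 0)]
  simp only [← mul_assoc, ← pow_add, mul_one, partA]
  congr 1
  interval_cases i <;> simp [want]

theorem gen_bits : ∀ x < 128, ∀ i < 3,
    bitN (mulQ x (genQ i)) 0 = bitN x 0 ∧ mulQ x (genQ i) / 16 = x / 16 ∧
    mulQ x (genQ i) / 2 % 8 = Nat.xor (x / 2 % 8) (2 ^ i) ∧
    bitN (mulQ x (genQ (i + 3))) 0 = (bitN x 0 + bitN (x / 2 % 8) i) % 2 ∧
    mulQ x (genQ (i + 3)) / 16 = Nat.xor (x / 16) (2 ^ i) ∧
    mulQ x (genQ (i + 3)) / 2 % 8 = x / 2 % 8 := by decide +kernel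

theorem gen_bits_z : ∀ x < 128, bitN (mulQ x (genQ 6)) 0 = (bitN x 0 + 1) % 2 ∧
    mulQ x (genQ 6) / 16 = x / 16 ∧ mulQ x (genQ 6) / 2 % 8 = x / 2 % 8 := by decide +kernel

/-- Multiply a code by a word. -/
def mulWord (x : ℕ) (w : List ℕ) : ℕ := w.foldl (fun r i => mulQ r (genQ i)) x

theorem word_facts : ∀ x < 128, ∀ y < 128, mulWord x (qword y) = mulQ x y ∧ mulQ x y < 128 := by
  decide +kernel

theorem word_lt : ∀ x < 128, (∀ i ∈ qword x, i ≤ 6) ∧ mulWord 0 (qword x) = x := by decide +kernel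

theorem genQ_facts : ∀ i ≤ 6, genQ i < 128 := by decide

theorem commute_partA (a : ℕ) : Commute F.z (F.partA a) :=
  (((F.comm_z 0 (by omega)).pow_right _).mul_right ((F.comm_z 1 (by omega)).pow_right _)).mul_right
    ((F.comm_z 2 (by omega)).pow_right _)

theorem commute_partB (a : ℕ) : Commute F.z (F.partB a) :=
  (((F.comm_z 3 (by omega)).pow_right _).mul_right ((F.comm_z 4 (by omega)).pow_right _)).mul_right
    ((F.comm_z 5 (by omega)).pow_right _)

theorem ι_mul_gen {x i : ℕ} (hx : x < 128) (hi : i ≤ 6) :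
    F.ι x * F.gen i = F.ι (mulQ x (genQ i)) := by
  by_cases h6 : i = 6
  · subst h6
    obtain ⟨e0, e1, e2⟩ := gen_bits_z x hx
    rw [show F.gen 6 = F.z from if_pos rfl]
    unfold ι
    rw [e0, e1, e2, ← F.z_pow_cases, pow_succ, mul_assoc _ (F.partA _), ← (F.commute_partA _).eq,
      ← mul_assoc, mul_assoc _ (F.partB _), ← (F.commute_partB _).eq, ← mul_assoc]
  rw [show F.gen i = F.e i from if_neg h6]
  unfold ι
  by_cases h3 : i < 3
  · obtain ⟨e0, e1, e2, -, -, -⟩ := gen_bits x hx i h3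
    rw [e0, e1, e2, mul_assoc, F.partA_mul (Nat.mod_lt _ (by omega)) h3]
  · obtain ⟨j, rfl⟩ : ∃ j, i = j + 3 := ⟨i - 3, by omega⟩
    obtain ⟨-, -, -, e0, e1, e2⟩ := gen_bits x hx j (by omega)
    rw [e0, e1, e2, mul_assoc, F.partA_mul_b (by omega), ← F.partB_mul (by omega) (by omega),
      ← F.z_pow_cases, pow_add]
    simp only [← mul_assoc]
    rw [mul_assoc _ (F.partB _) (F.z ^ _), ← ((F.commute_partB _).pow_left _).eq]
    simp only [← mul_assoc]

theorem ι_zero : F.ι 0 = 1 := by simp [ι, partA, partB, show ∀ j, bitN 0 j = 0 from fun j => by simp [bitN, Nat.shiftRight_eq_div_pow]]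

theorem ι_mul_word {w : List ℕ} : ∀ {x : ℕ}, x < 128 → (∀ i ∈ w, i ≤ 6) →
    F.ι x * (w.map F.gen).prod = F.ι (mulWord x w) := by
  induction w with
  | nil => intro x _ _; simp [mulWord]
  | cons a w ih =>
    intro x hx hw
    obtain ⟨ha, hw⟩ := List.forall_mem_cons.1 hw
    have hlt : mulQ x (genQ a) < 128 := (word_facts x hx _ (genQ_facts a ha)).2
    rw [List.map_cons, List.prod_cons, ← mul_assoc, F.ι_mul_gen hx ha, ih hlt hw]
    rfl

theorem ι_eq_prod {x : ℕ} (hx : x < 128) : F.ι x = ((qword x).map F.gen).prod := by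
  have h := F.ι_mul_word (w := qword x) (x := 0) (by omega) (word_lt x hx).1
  rw [F.ι_zero, one_mul, (word_lt x hx).2] at h
  exact h.symm

theorem ι_mul {x y : ℕ} (hx : x < 128) (hy : y < 128) : F.ι (mulQ x y) = F.ι x * F.ι y := by
  rw [F.ι_eq_prod hy, F.ι_mul_word hx (word_lt y hy).1, (word_facts x hx y hy).1]

theorem ι_gen {i : ℕ} (hi : i ≤ 6) : F.ι (genQ i) = F.gen i := by
  have h := F.ι_mul_gen (x := 0) (by omega) hi
  rw [F.ι_zero, one_mul] at h
  rw [h, show mulQ 0 (genQ i) = genQ i by interval_cases i <;> rfl]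

theorem ι_one : F.ι 1 = F.z := by simpa [genQ, gen] using F.ι_gen (i := 6) le_rfl

theorem mulQ_cancel : ∀ x < 128, ∀ y < 128, (mulQ (mulQ x x) (mulQ x y) = 0 → x = y) ∧
    mulQ (mulQ (mulQ x x) x) x = 0 := by decide +kernel

theorem odd_bit : ∀ x < 128, 2 ≤ x →
    ∃ i < 6, mulQ x (genQ i) = Nat.xor (mulQ (genQ i) x) 1 := by decide +kernel

theorem xor_one : ∀ x < 128, mulQ x 1 = Nat.xor x 1 ∧ Nat.xor x 1 < 128 := by decide +kernel

theorem ι_inj {x y : ℕ} (hx : x < 128) (hy : y < 128) (h : F.ι x = F.ι y) : x = y := by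
  have key : ∀ u < 128, F.ι u = 1 → u = 0 := by
    intro u hu h1
    rcases Nat.lt_or_ge u 2 with h2 | h2
    · interval_cases u
      · rfl
      · exact absurd (F.ι_one ▸ h1) F.z_ne
    · exfalso
      obtain ⟨i, hi, he⟩ := odd_bit u hu h2
      have hg := genQ_facts i (by omega)
      have hgu := (word_facts _ hg u hu).2
      apply F.z_ne
      have h3 := F.ι_mul hu hg
      rw [he, ← (xor_one _ hgu).1, F.ι_mul hgu (by omega), F.ι_mul hg hu, h1, F.ι_one] at h3
      simpa using h3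
  obtain ⟨hc, hi⟩ := mulQ_cancel x hx y hy
  refine hc (key _ (word_facts _ (word_facts x hx x hx).2 _ (word_facts x hx y hy).2).2 ?_)
  have hxx := (word_facts x hx x hx).2
  have h0 := congrArg F.ι hi
  rw [F.ι_mul (word_facts _ hxx x hx).2 hx, F.ι_mul hxx hx, F.ι_zero] at h0
  rw [F.ι_mul hxx (word_facts x hx y hy).2, F.ι_mul hx hy, ← h, ← mul_assoc]
  exact h0

theorem mem_of_gen {H : Subgroup P} (hz : F.z ∈ H) (he : ∀ i < 6, F.e i ∈ H) (x : ℕ) :
    F.ι x ∈ H := by
  unfold ι partA partB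
  refine mul_mem (mul_mem (pow_mem hz _) ?_) ?_
  · exact mul_mem (mul_mem (pow_mem (he 3 (by omega)) _) (pow_mem (he 4 (by omega)) _))
      (pow_mem (he 5 (by omega)) _)
  · exact mul_mem (mul_mem (pow_mem (he 0 (by omega)) _) (pow_mem (he 1 (by omega)) _))
      (pow_mem (he 2 (by omega)) _)

theorem exists_code {H : Subgroup P} [Finite H] (hz : F.z ∈ H) (he : ∀ i < 6, F.e i ∈ H)
    (hcard : Nat.card H = 128) {h : P} (hh : h ∈ H) : ∃ x < 128, F.ι x = h := by
  let f : Fin 128 → H := fun x => ⟨F.ι x, F.mem_of_gen hz he x⟩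
  have hf : Function.Bijective f := (Nat.bijective_iff_injective_and_card f).2
    ⟨fun a b hab => Fin.ext (F.ι_inj a.2 b.2 (congrArg Subtype.val hab)), by simp [hcard]⟩
  obtain ⟨x, hx⟩ := hf.2 ⟨h, hh⟩
  exact ⟨x, x.2, congrArg Subtype.val hx⟩

/-- The linear extension of six images. -/
def extQ (img : ℕ → ℕ) (x : ℕ) : ℕ :=
  (qword x).foldl (fun r i => mulQ r (bif Nat.beq i 6 then 1 else img i)) 0

theorem extQ_eq {R : Type*} [Group R] (F' : Frame R) (img : ℕ → ℕ) (himg : ∀ i < 6, img i < 128)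
    {φ : P →* R} (hz : φ F.z = F'.z) (he : ∀ i < 6, φ (F.e i) = F'.ι (img i)) {x : ℕ}
    (hx : x < 128) : φ (F.ι x) = F'.ι (extQ img x) ∧ extQ img x < 128 := by
  have key : ∀ w : List ℕ, (∀ i ∈ w, i ≤ 6) → ∀ r < 128,
      F'.ι (w.foldl (fun r i => mulQ r (bif Nat.beq i 6 then 1 else img i)) r) =
        F'.ι r * φ ((w.map F.gen).prod) ∧
      w.foldl (fun r i => mulQ r (bif Nat.beq i 6 then 1 else img i)) r < 128 := by
    intro w
    induction w with
    | nil => intro _ r hr; simp [hr]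
    | cons a w ih =>
      intro hw' r hr
      obtain ⟨ha, hw⟩ := List.forall_mem_cons.1 hw'
      rw [List.foldl_cons, List.map_cons, List.prod_cons, map_mul, ← mul_assoc]
      by_cases h6 : a = 6
      · subst h6
        obtain ⟨h1, h2⟩ := ih hw (mulQ r 1) (word_facts r hr 1 (by omega)).2
        refine ⟨?_, h2⟩
        rw [show (bif Nat.beq 6 6 then 1 else img 6) = 1 from rfl, h1, F'.ι_mul hr (by omega),
          F'.ι_one, show F.gen 6 = F.z from if_pos rfl, hz]
      · have hb : (bif Nat.beq a 6 then 1 else img a) = img a := by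
          rw [show Nat.beq a 6 = false from Bool.eq_false_iff.2 fun h => h6 (Nat.eq_of_beq_eq_true h)]
          rfl
        obtain ⟨h1, h2⟩ := ih hw (mulQ r (img a)) (word_facts r hr _ (himg a (by omega))).2
        refine ⟨?_, by rw [hb]; exact h2⟩
        rw [hb, h1, F'.ι_mul hr (himg a (by omega)), show F.gen a = F.e a from if_neg h6,
          he a (by omega)]
  obtain ⟨h1, h2⟩ := key (qword x) (word_lt x hx).1 0 (by omega)
  exact ⟨by rw [F.ι_eq_prod hx, ← one_mul (φ _), ← F'.ι_zero, ← h1]; rfl, h2⟩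

end Frame

end Cfsg.Lib.HeldType.CentShape
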