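import Cfsg.Agent.Lib.HeldType.CentShape.Tables
import Mathlib

/-!
# Words in a central extension of `L₃(2)` by an involution

From `a² = z^ε`, `c⁷ = 1`, `(ac)³ = 1`, `(aca c⁶)⁴ = z^ε` the products of 168 words are determined.
-/

set_option autoImplicit false
set_option maxRecDepth 100000

namespace Cfsg.Lib.HeldType.CentShape

open Cfsg.Lib.CosetEnum

/-- A field of nine bits. -/
def get9 (T i : ℕ) : ℕ := Nat.land (Nat.shiftRight T (Nat.mul 9 i)) 511

/-- The parent in the tree, twice, plus the letter. -/
def par (i : ℕ) : ℕ := get9 parTab i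

/-- The relators. -/
def rels : List (List ℕ) :=
  [[0, 0], [1, 1, 1, 1, 1, 1, 1], [0, 1, 0, 1, 0, 1],
    [0, 1, 0, 1, 1, 1, 1, 1, 1, 0, 1, 0, 1, 1, 1, 1, 1, 1, 0, 1, 0, 1, 1, 1, 1, 1, 1,
      0, 1, 0, 1, 1, 1, 1, 1, 1]]

/-- The values of the relators. -/
def rv (ε r : ℕ) : ℕ := bif Nat.beq r 0 || Nat.beq r 3 then ε else 0

/-- The edges. -/
def edgeTab (ε : ℕ) : ℕ := bif Nat.beq ε 0 then edge0 else edge1

/-- The products. -/
def prodTab (ε : ℕ) : Tab := bif Nat.beq ε 0 then prodTab0 else prodTab1

/-- Follow known edges. -/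
def walk (E known : ℕ) : List ℕ → ℕ → ℕ → Option (ℕ × ℕ)
  | [], u, t => some (u, t)
  | g :: w, u, t =>
    bif Nat.testBit known (2 * u + g) then
      walk E known w (Nat.div (get9 E (2 * u + g)) 2) (Nat.add t (Nat.mod (get9 E (2 * u + g)) 2))
    else none

/-- Check one deduction, and return the new set of known edges. -/
def deduce (ε known : ℕ) (s : ℕ × ℕ × ℕ) : Option ℕ :=
  let w := (rels.getD s.1 []).drop s.2.1 ++ (rels.getD s.1 []).take s.2.1
  let g := w.getLastD 0
  match walk (edgeTab ε) known w.dropLast s.2.2 0 with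
  | none => none
  | some (p, t) =>
    bif Nat.blt s.1 4 && Nat.blt g 2 && !w.isEmpty && Nat.beq (Nat.div (get9 (edgeTab ε) (2 * p + g)) 2) s.2.2 &&
        Nat.beq (Nat.mod (Nat.add t (Nat.mod (get9 (edgeTab ε) (2 * p + g)) 2)) 2) (rv ε s.1) then
      some (Nat.lor known (2 ^ (2 * p + g)))
    else none

/-- Run the deductions. -/
def deduceAll (ε : ℕ) : List (ℕ × ℕ × ℕ) → ℕ → Option ℕ
  | [], known => some known
  | s :: l, known =>
    match deduce ε known s with
    | none => none
    | some k => deduceAll ε l k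

/-- The edges of the tree. -/
def treeMask : ℕ := (List.range 167).foldl (fun m i => Nat.lor m (2 ^ par (i + 1))) 0

/-- The word of a representative. -/
def wordAux : ℕ → ℕ → List ℕ
  | 0, _ => []
  | f + 1, i => bif Nat.beq i 0 then [] else wordAux f (par i / 2) ++ [par i % 2]

theorem tree_check : ∀ i < 167, par (i + 1) / 2 < i + 1 ∧
    wordAux 168 (i + 1) = wordAux 168 (par (i + 1) / 2) ++ [par (i + 1) % 2] ∧
    (∀ ε < 2, get9 (edgeTab ε) (par (i + 1)) = 2 * (i + 1)) := by decide +kernel

theorem deduce_check : ∀ ε < 2, deduceAll ε steps treeMask = some (2 ^ 336 - 1) := by decide +kernel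

theorem prod_check : ∀ ε < 2, ∀ i < 168, get9 ((prodTab ε).get i) 0 = 2 * i ∧
    ∀ j < 167, get9 ((prodTab ε).get i) (j + 1) =
      2 * (get9 (edgeTab ε) (2 * (get9 ((prodTab ε).get i) (par (j + 1) / 2) / 2) + par (j + 1) % 2) / 2) +
        (get9 ((prodTab ε).get i) (par (j + 1) / 2) +
          get9 (edgeTab ε) (2 * (get9 ((prodTab ε).get i) (par (j + 1) / 2) / 2) + par (j + 1) % 2)) % 2 := by
  decide +kernel

theorem range_check : ∀ ε < 2, ∀ i < 168, ∀ j < 168, get9 ((prodTab ε).get i) j < 336 := by
  decide +kernel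

theorem edge_range : ∀ ε < 2, ∀ e < 336, get9 (edgeTab ε) e < 336 := by decide +kernel

/-- Generators of a central extension of `L₃(2)` by an involution, with normalised relations. -/
structure Gens (P : Type*) [Group P] where
  /-- the involution modulo the centre -/
  a : P
  /-- the element of order seven -/
  c : P
  /-- the central element -/
  z : P
  /-- the sign -/
  ε : ℕ
  ε_lt : ε < 2
  z_sq : z * z = 1
  z_comm : ∀ g : P, Commute z g
  a_sq : a * a = z ^ ε
  c_pow : c ^ 7 = 1
  ac : a * c * (a * c) * (a * c) = 1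
  comm : a * c * a * c ^ 6 * (a * c * a * c ^ 6) * (a * c * a * c ^ 6) * (a * c * a * c ^ 6) = z ^ ε

namespace Gens

variable {P : Type*} [Group P] (X : Gens P)

/-- The value of a letter. -/
def letter (g : ℕ) : P := if g = 0 then X.a else X.c

/-- The value of a word. -/
def val (w : List ℕ) : P := (w.map X.letter).prod

/-- The representative with a given number. -/
def W (i : ℕ) : P := X.val (wordAux 168 i)

theorem W_zero : X.W 0 = 1 := rfl

theorem z_pow_mod (n : ℕ) : X.z ^ n = X.z ^ (n % 2) := by
  conv_lhs => rw [← Nat.mod_add_div n 2, pow_add, pow_mul, sq, X.z_sq, one_pow, mul_one]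

theorem val_rel (r : ℕ) (hr : r < 4) : X.val (rels.getD r []) = X.z ^ rv X.ε r := by
  have c6 : X.c ^ 6 = X.c * (X.c * (X.c * (X.c * (X.c * X.c)))) := by simp [pow_succ, mul_assoc]
  interval_cases r <;> simp [rels, rv, val, letter, show Nat.beq 1 0 = false from rfl,
    show Nat.beq 1 3 = false from rfl, show Nat.beq 2 0 = false from rfl, show Nat.beq 2 3 = false from rfl]
  · exact X.a_sq
  · simpa [pow_succ, mul_assoc] using X.c_pow
  · simpa [mul_assoc] using X.ac
  · simpa [c6, mul_assoc] using X.comm

theorem val_append (u v : List ℕ) : X.val (u ++ v) = X.val u * X.val v := by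
  simp [val]

theorem val_rot (r k : ℕ) (hr : r < 4) :
    X.val ((rels.getD r []).drop k ++ (rels.getD r []).take k) = X.z ^ rv X.ε r := by
  have h := X.val_rel r hr
  rw [← List.take_append_drop k (rels.getD r []), val_append] at h
  rw [val_append]
  have hc := ((X.z_comm (X.val ((rels.getD r []).take k))).pow_left (rv X.ε r)).eq
  calc _ = (X.val ((rels.getD r []).take k))⁻¹ * (X.val ((rels.getD r []).take k) *
        X.val ((rels.getD r []).drop k)) * X.val ((rels.getD r []).take k) := by group
    _ = _ := by rw [h, mul_assoc, hc, inv_mul_cancel_left]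

/-- The edge holds in the group. -/
def Holds (e : ℕ) : Prop :=
  X.W (e / 2) * X.letter (e % 2) =
    X.W (get9 (edgeTab X.ε) e / 2) * X.z ^ (get9 (edgeTab X.ε) e % 2)

theorem walk_spec {known : ℕ} (hk : ∀ e, known.testBit e = true → X.Holds e) :
    ∀ (w : List ℕ) (u t : ℕ), (∀ g ∈ w, g < 2) → ∀ p q, walk (edgeTab X.ε) known w u t = some (p, q) →
      X.W u * X.z ^ t * X.val w = X.W p * X.z ^ q := by
  intro w
  induction w with
  | nil =>
    intro u t _ p q h
    simp only [walk, Option.some.injEq, Prod.mk.injEq] at h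
    obtain ⟨rfl, rfl⟩ := h
    simp [val]
  | cons g w ih =>
    intro u t hw p q h
    obtain ⟨hg, hw⟩ := List.forall_mem_cons.1 hw
    rw [walk] at h
    cases hb : known.testBit (2 * u + g) with
    | false => rw [hb] at h; simp at h
    | true =>
      rw [hb] at h
      have he := hk _ hb
      rw [Holds, show (2 * u + g) / 2 = u by omega, show (2 * u + g) % 2 = g by omega] at he
      rw [← ih _ _ hw p q h, val, List.map_cons, List.prod_cons, mul_assoc _ (X.z ^ t),
        ← mul_assoc (X.z ^ t), ((X.z_comm _).pow_left t).eq, ← mul_assoc (X.W u),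
        ← mul_assoc (X.W u), he]
      show _ = X.W _ * X.z ^ (t + _ % 2) * _
      rw [pow_add, ((Commute.refl X.z).pow_pow t _).eq]
      simp only [mul_assoc, val]
      rfl

theorem holds_tree (i : ℕ) (hi : i < 167) : X.Holds (par (i + 1)) := by
  obtain ⟨-, hw, he⟩ := tree_check i hi
  rw [Holds, he X.ε X.ε_lt, show 2 * (i + 1) / 2 = i + 1 by omega, show 2 * (i + 1) % 2 = 0 by omega,
    pow_zero, mul_one, W, W, hw, val_append]
  simp [val]

theorem holds_treeMask (e : ℕ) (h : treeMask.testBit e = true) : X.Holds e := by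
  have key : ∀ (l : List ℕ) (m : ℕ), (∀ i ∈ l, i < 167) →
      (∀ e, m.testBit e = true → X.Holds e) →
      ∀ e, (l.foldl (fun m i => Nat.lor m (2 ^ par (i + 1))) m).testBit e = true → X.Holds e := by
    intro l
    induction l with
    | nil => intro m _ hm e he; exact hm e he
    | cons i l ih =>
      intro m hl hm e he
      obtain ⟨hi, hl⟩ := List.forall_mem_cons.1 hl
      refine ih _ hl ?_ e he
      intro e he
      replace he : (Nat.lor m (2 ^ par (i + 1))).testBit e = true := he
      rw [show Nat.lor m (2 ^ par (i + 1)) = m ||| 2 ^ par (i + 1) from rfl, Nat.testBit_lor,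
        Bool.or_eq_true, Nat.testBit_two_pow, decide_eq_true_iff] at he
      rcases he with he | rfl
      exacts [hm e he, X.holds_tree i hi]
  exact key (List.range 167) 0 (fun i hi => List.mem_range.1 hi) (by simp) e h

theorem rels_letters : ∀ r < 4, ∀ g ∈ rels.getD r [], g < 2 := by decide

theorem deduce_spec {known k : ℕ} {s : ℕ × ℕ × ℕ} (hk : ∀ e, known.testBit e = true → X.Holds e)
    (h : deduce X.ε known s = some k) : ∀ e, k.testBit e = true → X.Holds e := by
  unfold deduce at h
  simp only at h
  generalize hw : (rels.getD s.1 []).drop s.2.1 ++ (rels.getD s.1 []).take s.2.1 = w at h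
  split at h
  · simp at h
  next p t hwalk =>
    cases hc : (Nat.blt s.1 4 && Nat.blt (w.getLastD 0) 2 && !w.isEmpty &&
      Nat.beq (Nat.div (get9 (edgeTab X.ε) (2 * p + w.getLastD 0)) 2) s.2.2 &&
      Nat.beq (Nat.mod (Nat.add t (Nat.mod (get9 (edgeTab X.ε) (2 * p + w.getLastD 0)) 2)) 2)
        (rv X.ε s.1)) with
    | false => rw [hc] at h; simp at h
    | true =>
      rw [hc] at h
      simp only [cond_true, Option.some.injEq] at h
      subst h
      simp only [Bool.and_eq_true, Bool.not_eq_true', Nat.beq_eq, List.isEmpty_eq_false_iff] at hc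
      obtain ⟨⟨⟨⟨hr, hg⟩, hne⟩, htgt⟩, hsgn⟩ := hc
      have hr := Nat.le_of_ble_eq_true hr
      have hlast : w.dropLast ++ [w.getLastD 0] = w := by
        rw [List.getLastD_eq_getLast?, List.getLast?_eq_some_getLast hne]
        exact List.dropLast_append_getLast hne
      have hall : ∀ g ∈ w, g < 2 := fun g hgw => by
        subst hw
        rcases List.mem_append.1 hgw with h' | h'
        exacts [rels_letters _ hr g (List.mem_of_mem_drop h'), rels_letters _ hr g (List.mem_of_mem_take h')]
      intro e he
      rw [show Nat.lor known (2 ^ (2 * p + w.getLastD 0)) = known ||| 2 ^ (2 * p + w.getLastD 0) from rfl,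
        Nat.testBit_lor, Bool.or_eq_true, Nat.testBit_two_pow, decide_eq_true_iff] at he
      rcases he with he | rfl
      · exact hk e he
      · generalize hlg : w.getLastD 0 = g at *
        have hg2 : g < 2 := Nat.le_of_ble_eq_true hg
        have h1 := X.walk_spec hk w.dropLast s.2.2 0
          (fun x hx => hall x (List.mem_of_mem_dropLast hx)) p t hwalk
        rw [pow_zero, mul_one] at h1
        have h2 := X.val_rot s.1 s.2.1 hr
        rw [hw, ← hlast, val_append, show X.val [g] = X.letter g by simp [val]] at h2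
        rw [Holds, show (2 * p + g) / 2 = p by omega, show (2 * p + g) % 2 = g by omega,
          show get9 (edgeTab X.ε) (2 * p + g) / 2 = s.2.2 from htgt]
        generalize hσ : get9 (edgeTab X.ε) (2 * p + g) % 2 = σ
        have hsgn' : (t + σ) % 2 = rv X.ε s.1 := by rw [← hσ]; exact hsgn
        have h3 := congrArg (fun y => y * X.letter g * X.z ^ σ) h1
        simp only [mul_assoc] at h3
        rw [← mul_assoc (X.val w.dropLast), h2, ← pow_add, ← mul_assoc (X.z ^ t),
          ((X.z_comm _).pow_left t).eq, mul_assoc (X.letter g), ← pow_add,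
          X.z_pow_mod (rv X.ε s.1 + σ), X.z_pow_mod (t + σ), hsgn'] at h3
        have h4 := congrArg (fun y => y * X.z ^ rv X.ε s.1) h3
        simp only [mul_assoc, ← pow_add] at h4
        rw [show X.z ^ (rv X.ε s.1 + rv X.ε s.1) = 1 by rw [← two_mul, pow_mul, sq, X.z_sq, one_pow],
          mul_one, X.z_pow_mod ((rv X.ε s.1 + σ) % 2 + rv X.ε s.1)] at h4
        rw [← h4]
        congr 2
        omega

theorem deduceAll_spec : ∀ (l : List (ℕ × ℕ × ℕ)) {known k : ℕ},
    (∀ e, known.testBit e = true → X.Holds e) → deduceAll X.ε l known = some k →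
    ∀ e, k.testBit e = true → X.Holds e := by
  intro l
  induction l with
  | nil =>
    intro known k hk h
    simp only [deduceAll, Option.some.injEq] at h
    exact h ▸ hk
  | cons s l ih =>
    intro known k hk h
    rw [deduceAll] at h
    split at h
    · simp at h
    next k' hk' => exact ih (X.deduce_spec hk hk') h

theorem holds {e : ℕ} (he : e < 336) : X.Holds e :=
  X.deduceAll_spec steps X.holds_treeMask (deduce_check X.ε X.ε_lt) e
    (by rw [Nat.testBit_two_pow_sub_one]; simpa using he)

/-- The table of products holds in the group. -/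
theorem W_mul {i j : ℕ} (hi : i < 168) (hj : j < 168) :
    X.W i * X.W j = X.W (get9 ((prodTab X.ε).get i) j / 2) * X.z ^ (get9 ((prodTab X.ε).get i) j % 2) := by
  induction j using Nat.strong_induction_on with
  | _ j ih =>
    obtain ⟨hP0, hP⟩ := prod_check X.ε X.ε_lt i hi
    rcases Nat.eq_zero_or_pos j with rfl | hjp
    · rw [hP0, W_zero, mul_one, show 2 * i / 2 = i by omega, show 2 * i % 2 = 0 by omega, pow_zero,
        mul_one]
    obtain ⟨k, rfl⟩ : ∃ k, j = k + 1 := ⟨j - 1, by omega⟩
    obtain ⟨hlt, hw, -⟩ := tree_check k (by omega)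
    have hrec := ih _ hlt (by omega)
    have hr := range_check X.ε X.ε_lt i hi _ (show par (k + 1) / 2 < 168 by omega)
    generalize hy : get9 ((prodTab X.ε).get i) (par (k + 1) / 2) = y at hrec hr
    have he := X.holds (e := 2 * (y / 2) + par (k + 1) % 2) (by omega)
    rw [Holds, show (2 * (y / 2) + par (k + 1) % 2) / 2 = y / 2 by omega,
      show (2 * (y / 2) + par (k + 1) % 2) % 2 = par (k + 1) % 2 by omega] at he
    generalize hd : get9 (edgeTab X.ε) (2 * (y / 2) + par (k + 1) % 2) = d at he
    rw [hP k (by omega), hy, hd, show (2 * (d / 2) + (y + d) % 2) / 2 = d / 2 by omega,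
      show (2 * (d / 2) + (y + d) % 2) % 2 = (y + d) % 2 by omega,
      show X.W (k + 1) = X.W (par (k + 1) / 2) * X.letter (par (k + 1) % 2) by
        rw [W, W, hw, val_append]; simp [val],
      ← mul_assoc, hrec, mul_assoc, ((X.z_comm _).pow_left (y % 2)).eq, ← mul_assoc, he, mul_assoc,
      ← pow_add, X.z_pow_mod (d % 2 + y % 2)]
    congr 2
    omega

end Gens

end Cfsg.Lib.HeldType.CentShape
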