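import Cfsg.Agent.Lib.HeldType.CentShape.Classify
import Cfsg.Agent.Lib.HeldType.CentShape.Word

/-!
# Coordinates for the four possible extensions

The code of `ι q · W i` is `q + 128 i`.
-/

set_option autoImplicit false
set_option maxRecDepth 100000
set_option linter.unusedSectionVars false

namespace Cfsg.Lib.HeldType.CentShape

open Cfsg.Lib.CosetEnum
open Frame (extQ)

/-- The images of the frame under the model involution. -/
def imgA (ty i : ℕ) : ℕ :=
  (bif Nat.beq ty 0 then [2, 4, 10, 80, 32, 64] else [2, 5, 11, 94, 34, 67]).getD i 0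

/-- The images of the frame under the model element of order seven. -/
def imgC (i : ℕ) : ℕ := [4, 8, 6, 48, 64, 16].getD i 0

/-- The images under a letter. -/
def imgL (ty g : ℕ) (i : ℕ) : ℕ := bif Nat.beq g 0 then imgA ty i else imgC i

/-- The table of actions. -/
def actTab (ty : ℕ) : Tab := bif Nat.beq ty 0 then actTabS else actTabU

/-- The action of a representative on a code. -/
noncomputable def actC (ty i x : ℕ) : ℕ :=
  Nat.land (Nat.shiftRight ((actTab ty).get i) (Nat.mul 8 x)) 255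

/-- The product of codes. -/
noncomputable def mulX (ty ε x y : ℕ) : ℕ :=
  let P := get9 ((prodTab ε).get (Nat.div x 128)) (Nat.div y 128)
  Nat.add (Nat.xor (mulQ (Nat.mod x 128) (actC ty (Nat.div x 128) (Nat.mod y 128))) (Nat.mod P 2))
    (Nat.mul 128 (Nat.div P 2))

theorem act_zero : ∀ ty < 2, ∀ x < 128, actC ty 0 x = x := by decide +kernel

theorem act_check : ∀ ty < 2, ∀ k < 167, ∀ x < 128, extQ (imgL ty (par (k + 1) % 2)) x < 128 ∧
    actC ty (k + 1) x = actC ty (par (k + 1) / 2) (extQ (imgL ty (par (k + 1) % 2)) x) := by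
  decide +kernel

theorem act_range : ∀ ty < 2, ∀ i < 168, ∀ x < 128, actC ty i x < 128 := by decide +kernel

theorem imgA_half : ∀ ty < 2, ∀ i < 6, imgA ty i < 128 ∧
    imgA ty i / 2 = (bif Nat.beq ty 0 then mS else mU).getD i 0 := by decide

theorem imgC_half : ∀ i < 6, imgC i < 128 ∧ imgC i / 2 = mC.getD i 0 := by decide

theorem gen_edges : ∀ ε < 2, get9 (edgeTab ε) 0 < 336 ∧ get9 (edgeTab ε) 1 < 336 := by decide +kernel

/-- An extension in normal form. -/
structure Coord (P : Type*) [Group P] where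
  /-- the extraspecial subgroup with its frame -/
  S : Shape P
  /-- the two generators -/
  X : Gens P
  /-- the module -/
  ty : ℕ
  ty_lt : ty < 2
  hz : X.z = S.F.z
  conjA : ∀ i < 6, X.a * S.F.e i * X.a⁻¹ = S.F.ι (imgA ty i)
  conjC : ∀ i < 6, X.c * S.F.e i * X.c⁻¹ = S.F.ι (imgC i)
  gen : Subgroup.closure ((S.Q : Set P) ∪ {X.a, X.c}) = ⊤
  card : Nat.card P = 21504

namespace Coord

variable {P : Type*} [Group P] [Finite P] (K : Coord P)

/-- The sign. -/
abbrev ε : ℕ := K.X.ε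

/-- The element with a given code. -/
def el (x : ℕ) : P := K.S.F.ι (x % 128) * K.X.W (x / 128)

/-- The product of codes. -/
noncomputable abbrev mul (x y : ℕ) : ℕ := mulX K.ty K.X.ε x y

theorem conj_letter {g x : ℕ} (hg : g < 2) (hx : x < 128) :
    K.X.letter g * K.S.F.ι x * (K.X.letter g)⁻¹ = K.S.F.ι (extQ (imgL K.ty g) x) := by
  have hd : ∀ i < 6, imgL K.ty g i < 128 := fun i hi => by
    interval_cases g
    exacts [(imgA_half K.ty K.ty_lt i hi).1, (imgC_half i hi).1]
  refine (K.S.F.extQ_eq K.S.F _ hd (φ := (MulAut.conj (K.X.letter g)).toMonoidHom) ?_ ?_ hx).1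
  · show _ * K.S.F.z * _⁻¹ = _
    rw [K.S.z_central, mul_inv_cancel_right]
  · intro i hi
    interval_cases g
    exacts [K.conjA i hi, K.conjC i hi]

theorem conj_W {i x : ℕ} (hi : i < 168) (hx : x < 128) :
    K.X.W i * K.S.F.ι x * (K.X.W i)⁻¹ = K.S.F.ι (actC K.ty i x) := by
  induction i using Nat.strong_induction_on generalizing x with
  | _ i ih =>
    rcases Nat.eq_zero_or_pos i with rfl | hip
    · rw [K.X.W_zero, act_zero K.ty K.ty_lt x hx]; simp
    obtain ⟨k, rfl⟩ : ∃ k, i = k + 1 := ⟨i - 1, by omega⟩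
    obtain ⟨hlt, hw, -⟩ := tree_check k (by omega)
    obtain ⟨h1, h2⟩ := act_check K.ty K.ty_lt k (by omega) x hx
    rw [h2, show K.X.W (k + 1) = K.X.W (par (k + 1) / 2) * K.X.letter (par (k + 1) % 2) by
      rw [Gens.W, Gens.W, hw, Gens.val_append]; simp [Gens.val], ← ih _ hlt (by omega) h1,
      ← K.conj_letter (Nat.mod_lt _ (by omega)) hx]
    group

theorem mul_lt {x y : ℕ} (hx : x < 21504) (hy : y < 21504) : K.mul x y < 21504 := by
  have hP := range_check K.X.ε K.X.ε_lt (x / 128) (by omega) (y / 128) (by omega)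
  have ha := act_range K.ty K.ty_lt (x / 128) (by omega) (y % 128) (by omega)
  have hq := (Frame.word_facts (x % 128) (by omega) _ ha).2
  have := Nat.xor_lt_two_pow (n := 7) hq (show get9 ((prodTab K.X.ε).get (x / 128)) (y / 128) % 2 < 2 ^ 7 by omega)
  show (mulQ (x % 128) (actC K.ty (x / 128) (y % 128)) ^^^ get9 ((prodTab K.X.ε).get (x / 128)) (y / 128) % 2) +
    128 * (get9 ((prodTab K.X.ε).get (x / 128)) (y / 128) / 2) < 21504
  omega

theorem el_mul {x y : ℕ} (hx : x < 21504) (hy : y < 21504) : K.el (K.mul x y) = K.el x * K.el y := by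
  have hP := range_check K.X.ε K.X.ε_lt (x / 128) (by omega) (y / 128) (by omega)
  have ha := act_range K.ty K.ty_lt (x / 128) (by omega) (y % 128) (by omega)
  have hq := (Frame.word_facts (x % 128) (by omega) _ ha).2
  have hW := K.X.W_mul (i := x / 128) (j := y / 128) (by omega) (by omega)
  have hval : K.mul x y = (mulQ (x % 128) (actC K.ty (x / 128) (y % 128)) ^^^
      get9 ((prodTab K.X.ε).get (x / 128)) (y / 128) % 2) +
    128 * (get9 ((prodTab K.X.ε).get (x / 128)) (y / 128) / 2) := rfl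
  rw [hval]
  generalize get9 ((prodTab K.X.ε).get (x / 128)) (y / 128) = T at hP hW ⊢
  have hlt := Nat.xor_lt_two_pow (n := 7) hq (show T % 2 < 2 ^ 7 by omega)
  rw [el, el, el, show ((mulQ (x % 128) (actC K.ty (x / 128) (y % 128)) ^^^ T % 2) + 128 * (T / 2)) % 128 =
      mulQ (x % 128) (actC K.ty (x / 128) (y % 128)) ^^^ T % 2 by omega,
    show ((mulQ (x % 128) (actC K.ty (x / 128) (y % 128)) ^^^ T % 2) + 128 * (T / 2)) / 128 = T / 2 by omega]
  have hs : K.S.F.ι (mulQ (x % 128) (actC K.ty (x / 128) (y % 128)) ^^^ T % 2) =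
      K.S.F.ι (mulQ (x % 128) (actC K.ty (x / 128) (y % 128))) * K.S.F.z ^ (T % 2) := by
    rcases Nat.mod_two_eq_zero_or_one T with h0 | h0 <;> rw [h0]
    · simp
    · rw [pow_one, ← K.S.ι_xor_one hq]; rfl
  rw [hs, K.S.F.ι_mul (by omega) ha, ← K.conj_W (by omega) (by omega), ← K.hz]
  calc K.S.F.ι (x % 128) * (K.X.W (x / 128) * K.S.F.ι (y % 128) * (K.X.W (x / 128))⁻¹) *
        K.X.z ^ (T % 2) * K.X.W (T / 2)
      = K.S.F.ι (x % 128) * (K.X.W (x / 128) * K.S.F.ι (y % 128)) *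
        ((K.X.W (x / 128))⁻¹ * (K.X.W (T / 2) * K.X.z ^ (T % 2))) := by
        rw [← ((K.X.z_comm (K.X.W (T / 2))).pow_left (T % 2)).eq]; group
    _ = _ := by rw [← hW, inv_mul_cancel_left]; group

theorem el_code {x : ℕ} (hx : x < 128) : K.el x = K.S.F.ι x := by
  rw [el, Nat.mod_eq_of_lt hx, Nat.div_eq_of_lt hx, K.X.W_zero, mul_one]

theorem el_one : K.el 0 = 1 := by rw [K.el_code (by omega), K.S.F.ι_zero]

theorem el_z : K.el 1 = K.S.F.z := by rw [K.el_code (by omega), K.S.F.ι_one]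

theorem el_edge {g : ℕ} (hg : g < 2) : ∃ x < 21504, K.el x = K.X.letter g := by
  have h := K.X.holds (e := g) (by omega)
  rw [Gens.Holds, show g / 2 = 0 by omega, show g % 2 = g by omega, K.X.W_zero, one_mul] at h
  have hr := edge_range K.X.ε K.X.ε_lt g (by omega)
  generalize get9 (edgeTab K.X.ε) g = d at h hr
  refine ⟨d % 2 + 128 * (d / 2), by omega, ?_⟩
  rw [el, show (d % 2 + 128 * (d / 2)) % 128 = d % 2 by omega,
    show (d % 2 + 128 * (d / 2)) / 128 = d / 2 by omega, h, ← ((K.X.z_comm (K.X.W (d / 2))).pow_left (d % 2)).eq]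
  rcases Nat.mod_two_eq_zero_or_one d with h0 | h0 <;> rw [h0]
  · rw [K.S.F.ι_zero, pow_zero]
  · rw [K.S.F.ι_one, K.hz, pow_one]

theorem el_surj (g : P) : ∃ x < 21504, K.el x = g := by
  let M : Submonoid P :=
    { carrier := {g | ∃ x < 21504, K.el x = g}
      one_mem' := ⟨0, by omega, K.el_one⟩
      mul_mem' := by
        rintro u v ⟨x, hx, rfl⟩ ⟨y, hy, rfl⟩
        exact ⟨K.mul x y, K.mul_lt hx hy, K.el_mul hx hy⟩ }
  let H : Subgroup P :=
    { M with
      inv_mem' := fun {u} hu => by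
        have hfin : IsOfFinOrder u := isOfFinOrder_of_finite u
        obtain ⟨n, hn⟩ := (hfin.mem_powers_iff_mem_zpowers).2 (inv_mem (Subgroup.mem_zpowers u))
        exact hn ▸ pow_mem (show u ∈ M from hu) n }
  have : H = ⊤ := by
    rw [eq_top_iff, ← K.gen, Subgroup.closure_le]
    rintro v (hv | rfl | rfl)
    · obtain ⟨x, hx, rfl⟩ := K.S.F.exists_code K.S.z_mem K.S.e_mem K.S.card hv
      exact ⟨x, by omega, K.el_code hx⟩
    · exact K.el_edge (g := 0) (by omega)
    · exact K.el_edge (g := 1) (by omega)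
  exact this.ge (Subgroup.mem_top g)

theorem el_inj {x y : ℕ} (hx : x < 21504) (hy : y < 21504) (h : K.el x = K.el y) : x = y := by
  let f : Fin 21504 → P := fun i => K.el i
  have hf : Function.Bijective f := (Nat.bijective_iff_surjective_and_card f).2
    ⟨fun g => let ⟨x, hx, e⟩ := K.el_surj g; ⟨⟨x, hx⟩, e⟩, by simp [K.card]⟩
  exact congrArg Fin.val (hf.1 (a₁ := ⟨x, hx⟩) (a₂ := ⟨y, hy⟩) h)

theorem el_mem_iff {x : ℕ} (hx : x < 21504) : K.el x ∈ K.S.Q ↔ x < 128 := by
  refine ⟨fun h => ?_, fun h => K.el_code h ▸ K.S.ι_mem x⟩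
  obtain ⟨y, hy, hyx⟩ := K.S.F.exists_code K.S.z_mem K.S.e_mem K.S.card h
  have := K.el_inj (x := y) (y := x) (by omega) hx (by rw [K.el_code hy, hyx])
  omega

/-- Two extensions in normal form with the same module and sign are isomorphic. -/
theorem nonempty_iso {P' : Type*} [Group P'] [Finite P'] (K' : Coord P') (hty : K.ty = K'.ty)
    (hε : K.X.ε = K'.X.ε) : Nonempty (P ≃* P') := by
  let f : Fin 21504 → P := fun i => K.el i
  let f' : Fin 21504 → P' := fun i => K'.el i
  have hf : Function.Bijective f :=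
    ⟨fun a b h => Fin.ext (K.el_inj a.2 b.2 h), fun g => let ⟨x, hx, e⟩ := K.el_surj g; ⟨⟨x, hx⟩, e⟩⟩
  have hf' : Function.Bijective f' :=
    ⟨fun a b h => Fin.ext (K'.el_inj a.2 b.2 h), fun g => let ⟨x, hx, e⟩ := K'.el_surj g; ⟨⟨x, hx⟩, e⟩⟩
  refine ⟨MulEquiv.mk ((Equiv.ofBijective f hf).symm.trans (Equiv.ofBijective f' hf')) fun u v => ?_⟩
  obtain ⟨a, rfl⟩ := hf.2 u
  obtain ⟨b, rfl⟩ := hf.2 v
  have h1 : f a * f b = f ⟨K.mul a b, K.mul_lt a.2 b.2⟩ := (K.el_mul a.2 b.2).symm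
  have hs : ∀ w, (Equiv.ofBijective f hf).symm (f w) = w := (Equiv.ofBijective f hf).symm_apply_apply
  simp only [Equiv.toFun_as_coe, Equiv.trans_apply, h1, hs, Equiv.ofBijective_apply]
  show K'.el (K.mul a b) = K'.el a * K'.el b
  rw [← K'.el_mul a.2 b.2, Coord.mul, Coord.mul, hty, hε]

end Coord

end Cfsg.Lib.HeldType.CentShape
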