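import Cfsg.Agent.Lib.HeldType.CentShape.Action

/-!
# Checks on the isometries of the quotient
-/

set_option autoImplicit false

namespace Cfsg.Lib.HeldType.CentShape

/-- The model of an element of order seven on the quotient. -/
def mC : List ℕ := [2, 4, 3, 24, 32, 8]
/-- The model of the involution, two complementary invariant subspaces. -/
def mS : List ℕ := [1, 2, 5, 40, 16, 32]
/-- The model of the involution, one invariant subspace. -/
def mU : List ℕ := [1, 2, 5, 47, 17, 33]

/-- Iterate a map given by its images of the basis. -/
def iterV (M : List ℕ) : ℕ → ℕ → ℕ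
  | 0, v => v
  | n + 1, v => iterV M n (appV M v)

/-- The standard basis. -/
def basis6 : List ℕ := [1, 2, 4, 8, 16, 32]

/-- Seventh power trivial, and not trivial itself. -/
def seven (M : List ℕ) : Bool :=
  (basis6.all fun b => Nat.beq (iterV M 7 b) b) && !(basis6.all fun b => Nat.beq (appV M b) b)

/-- One step of the word `a c a c⁶`. -/
def commStep (M : List ℕ) (v : ℕ) : ℕ := appV M (appV mC (appV M (iterV mC 6 v)))

/-- The relations of `L₃(2)` with the model element of order seven. -/
def relA (M : List ℕ) : Bool :=
  (basis6.all fun b => Nat.beq (appV M (appV M b)) b) &&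
    (basis6.all fun b => Nat.beq (appV M (appV mC (appV M (appV mC (appV M (appV mC b)))))) b) &&
      (basis6.all fun b => Nat.beq (commStep M (commStep M (commStep M (commStep M b)))) b)

/-- The six vectors are singular and have the standard products. -/
def goodF (f : List ℕ) : Bool :=
  (List.range 6).all fun i =>
    Nat.blt (f.getD i 0) 64 && Nat.beq (qF (f.getD i 0)) 0 &&
      (List.range 6).all fun j => Nat.beq (bF (f.getD i 0) (f.getD j 0)) (want i j)

/-- The map has, in the new basis, the given images. -/
def conjOK (M : List ℕ) (e : ℕ) (f T : List ℕ) : Bool :=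
  (List.range 6).all fun i => Nat.beq (iterV M e (f.getD i 0)) (appV f (T.getD i 0))

/-- Pack six vectors. -/
def pack (M : List ℕ) : ℕ := M.foldr (fun m r => Nat.add m (Nat.mul 64 r)) 0

/-- Unpack six vectors. -/
def unpack (n : ℕ) : List ℕ :=
  [Nat.mod n 64, Nat.mod (Nat.div n 64) 64, Nat.mod (Nat.div n 4096) 64,
    Nat.mod (Nat.div n 262144) 64, Nat.mod (Nat.div n 16777216) 64,
    Nat.mod (Nat.div n 1073741824) 64]

/-- An element of order seven has a basis in which it is the model. -/
def okC (W : List (ℕ × ℕ)) (M : List ℕ) : Bool :=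
  !seven M || W.any fun w =>
    Nat.beq w.1 (pack M) && (goodF (unpack w.2) && conjOK M 1 (unpack w.2) mC)

/-- A mate of the model of order seven has a basis in which the pair is a model, up to inversion. -/
def okA (W : List (ℕ × ℕ × ℕ)) (M : List ℕ) : Bool :=
  !relA M || W.any fun w =>
    Nat.beq w.1 (pack M) && (goodF (unpack w.2.1) &&
      ((Nat.beq w.2.2 1 || Nat.beq w.2.2 6) && conjOK mC w.2.2 (unpack w.2.1) mC &&
        (conjOK M 1 (unpack w.2.1) mS || conjOK M 1 (unpack w.2.1) mU)))

end Cfsg.Lib.HeldType.CentShape
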