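import Cfsg.Agent.Lib.HeldType.CentShape.Coord

/-!
# Checks on involutions and square roots in the extensions to be excluded
-/

set_option autoImplicit false

namespace Cfsg.Lib.HeldType.CentShape

/-- A block of codes: involutions and square roots of the representatives are listed. -/
noncomputable def scanBlock (ty ε : ℕ) (cls : List (ℕ × List ℕ × List ℕ)) (inv : List (ℕ × ℕ × ℕ))
    (i : ℕ) : Bool :=
  (List.range 128).all fun q =>
    let x := Nat.add q (Nat.mul 128 i)
    let s := mulX ty ε x x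
    (!Nat.beq s 0 || Nat.ble x 1 || inv.any fun n => Nat.beq n.1 x) &&
      cls.all fun c => !Nat.beq s c.1 || c.2.1.any fun r => Nat.beq r x

/-- Strictly increasing. -/
def increasing : List ℕ → Bool
  | [] => true
  | a :: l => (l.all fun b => Nat.blt a b) && increasing l

/-- The listed data is correct. -/
noncomputable def witnessOK (ty ε : ℕ) (cls : List (ℕ × List ℕ × List ℕ)) (inv : List (ℕ × ℕ × ℕ)) :
    Bool :=
  (inv.all fun n => Nat.blt n.1 21504 && Nat.blt n.2.2 21504 && Nat.blt n.2.1 cls.length &&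
    Nat.beq (mulX ty ε n.2.2 (cls.getD n.2.1 (0, [], [])).1) (mulX ty ε n.1 n.2.2)) &&
  (cls.all fun c => Nat.blt c.1 21504 && increasing c.2.2 && c.2.2.all fun g =>
    Nat.blt g 21504 && Nat.beq (mulX ty ε g g) 1 && Nat.beq (mulX ty ε g c.1) (mulX ty ε c.1 g))

/-- Remove classes whose square roots are too few. -/
def cascade (cls : List (ℕ × List ℕ × List ℕ)) : List ℕ → List ℕ → Option (List ℕ)
  | [], rem => some rem
  | k :: ks, rem =>
    bif rem.all fun l =>
        Nat.blt (cls.getD k (0, [], [])).2.1.length (cls.getD l (0, [], [])).2.2.length then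
      cascade cls ks (rem.filter fun l => !Nat.beq l k)
    else none

theorem nodup_of_increasing : ∀ {l : List ℕ}, increasing l = true → l.Nodup
  | [], _ => List.nodup_nil
  | a :: l, h => by
    simp only [increasing, Bool.and_eq_true, List.all_eq_true] at h
    refine List.nodup_cons.2 ⟨fun ha => ?_, nodup_of_increasing h.2⟩
    exact absurd (Nat.le_of_ble_eq_true (h.1 a ha)) (by omega)

namespace Coord

variable {G : Type*} [Group G] [Finite G] {t : G} (K : Coord ↥(Subgroup.centralizer ({t} : Set G)))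

/-- The elements commuting with `b` and squaring to `a`. -/
def rootSet (a b : G) : Set G := {x | x * b = b * x ∧ x * a = a * x ∧ x * x = a}

theorem ncard_rootSet_conj (a b c : G) :
    (rootSet (c * a * c⁻¹) (c * b * c⁻¹)).ncard = (rootSet a b).ncard := by
  have e : rootSet (c * a * c⁻¹) (c * b * c⁻¹) = (MulAut.conj c) '' rootSet a b := by
    ext x
    constructor
    · intro ⟨h1, h2, h3⟩
      refine ⟨c⁻¹ * x * c, ⟨?_, ?_, ?_⟩, by simp [mul_assoc]⟩
      · have := congrArg (fun y => c⁻¹ * y * c) h1; simpa [mul_assoc] using this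
      · have := congrArg (fun y => c⁻¹ * y * c) h2; simpa [mul_assoc] using this
      · have := congrArg (fun y => c⁻¹ * y * c) h3; simpa [mul_assoc] using this
    · rintro ⟨y, ⟨h1, h2, h3⟩, rfl⟩
      refine ⟨?_, ?_, ?_⟩
      · show (MulAut.conj c) y * (MulAut.conj c) b = (MulAut.conj c) b * (MulAut.conj c) y
        rw [← map_mul, h1, map_mul]
      · show (MulAut.conj c) y * (MulAut.conj c) a = (MulAut.conj c) a * (MulAut.conj c) y
        rw [← map_mul, h2, map_mul]
      · show (MulAut.conj c) y * (MulAut.conj c) y = (MulAut.conj c) a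
        rw [← map_mul, h3]
  rw [e, Set.ncard_image_of_injective _ (MulEquiv.injective _)]

/-- The element of the group with a given code. -/
def gel (x : ℕ) : G := (K.el x : G)

theorem gel_mul {x y : ℕ} (hx : x < 21504) (hy : y < 21504) : K.gel (K.mul x y) = K.gel x * K.gel y := by
  rw [gel, gel, gel, ← Subgroup.coe_mul, K.el_mul hx hy]

theorem gel_inj {x y : ℕ} (hx : x < 21504) (hy : y < 21504) (h : K.gel x = K.gel y) : x = y :=
  K.el_inj hx hy (Subtype.ext h)

theorem gel_comm (x : ℕ) : K.gel x * t = t * K.gel x :=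
  Subgroup.mem_centralizer_singleton_iff.1 (K.el x).2

theorem gel_surj {g : G} (h : g * t = t * g) : ∃ x < 21504, K.gel x = g := by
  obtain ⟨x, hx, e⟩ := K.el_surj ⟨g, Subgroup.mem_centralizer_singleton_iff.2 h⟩
  exact ⟨x, hx, congrArg Subtype.val e⟩

theorem gel_z (ht : t ≠ 1) : K.gel 1 = t := by
  have hm : t ∈ Subgroup.centralizer ({t} : Set G) := Subgroup.mem_centralizer_singleton_iff.2 rfl
  have hc : ∀ g : ↥(Subgroup.centralizer ({t} : Set G)), Commute ⟨t, hm⟩ g := fun g =>
    Subtype.ext (Subgroup.mem_centralizer_singleton_iff.1 g.2).symm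
  rcases K.S.mem_cent (g := ⟨t, hm⟩) (fun i _ => (hc _).eq) (hc _).eq with h | h
  · exact absurd (congrArg Subtype.val h) ht
  · rw [gel, K.el_z, ← h]

/-- The conjugates of the involution lie in the classes left by the cascade. -/
theorem fused_classes (ht : orderOf t = 2) {cls : List (ℕ × List ℕ × List ℕ)} {inv : List (ℕ × ℕ × ℕ)}
    (hscan : ∀ i < 168, scanBlock K.ty K.X.ε cls inv i = true)
    (hwit : witnessOK K.ty K.X.ε cls inv = true) {order fin : List ℕ}
    (hcas : cascade cls order (List.range cls.length) = some fin)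
    {g : G} (hg : g * t * g⁻¹ * t = t * (g * t * g⁻¹)) (hne : g * t * g⁻¹ ≠ t) :
    ∃ n ∈ inv, n.2.1 ∈ fin ∧ n.1 < 21504 ∧ K.gel n.1 = g * t * g⁻¹ := by
  have ht2 : t * t = 1 := by rw [← sq, ← ht, pow_orderOf_eq_one]
  have ht1 : t ≠ 1 := fun h => by rw [h, orderOf_one] at ht; omega
  simp only [witnessOK, Bool.and_eq_true, List.all_eq_true, Nat.beq_eq] at hwit
  obtain ⟨hinv, hcls⟩ := hwit
  have hblt : ∀ {a b : ℕ}, Nat.blt a b = true → a < b := fun h => Nat.le_of_ble_eq_true h
  have hclassify : ∀ y : G, y * t = t * y → y * y = 1 → y ≠ 1 → y ≠ t →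
      ∃ n ∈ inv, n.1 < 21504 ∧ n.2.2 < 21504 ∧ n.2.1 < cls.length ∧ K.gel n.1 = y ∧
        y = K.gel n.2.2 * K.gel (cls.getD n.2.1 (0, [], [])).1 * (K.gel n.2.2)⁻¹ := by
    intro y hy hy2 hy1 hyt
    obtain ⟨x, hx, rfl⟩ := K.gel_surj hy
    have hs := hscan (x / 128) (by omega)
    simp only [scanBlock, List.all_eq_true, List.mem_range, Bool.and_eq_true] at hs
    obtain ⟨hs1, -⟩ := hs (x % 128) (Nat.mod_lt _ (by omega))
    rw [show Nat.add (x % 128) (Nat.mul 128 (x / 128)) = x from Nat.mod_add_div x 128] at hs1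
    have h0 : mulX K.ty K.X.ε x x = 0 := K.gel_inj (K.mul_lt hx hx) (by omega) (by
      rw [show K.gel (mulX K.ty K.X.ε x x) = _ from K.gel_mul hx hx, hy2, gel, K.el_one, OneMemClass.coe_one])
    simp only [h0, Bool.or_eq_true, Bool.not_eq_true', List.any_eq_true, Nat.beq_eq] at hs1
    rcases hs1 with (h | h) | ⟨n, hn, hnx⟩
    · simp at h
    · exfalso
      rcases Nat.le_one_iff_eq_zero_or_eq_one.1 (Nat.le_of_ble_eq_true h) with rfl | rfl
      · exact hy1 (by rw [gel, K.el_one, OneMemClass.coe_one])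
      · exact hyt (K.gel_z ht1)
    · obtain ⟨⟨⟨h1, h2⟩, h3⟩, h4⟩ := hinv n hn
      have hk : (cls.getD n.2.1 (0, [], [])).1 < 21504 := by
        rw [List.getD_eq_getElem _ _ (hblt h3)]
        exact hblt (hcls _ (List.getElem_mem _)).1.1
      refine ⟨n, hn, hblt h1, hblt h2, hblt h3, by rw [hnx], ?_⟩
      subst hnx
      rw [eq_mul_inv_iff_mul_eq, ← K.gel_mul (hblt h1) (hblt h2), ← K.gel_mul (hblt h2) hk]
      exact congrArg K.gel h4.symm
  have hupper : ∀ k < cls.length, (rootSet (K.gel (cls.getD k (0, [], [])).1) t).ncard ≤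
      (cls.getD k (0, [], [])).2.1.length := by
    intro k hk
    rw [List.getD_eq_getElem _ _ hk]
    set c := cls[k]
    have hc := hblt (hcls c (List.getElem_mem _)).1.1
    calc (rootSet (K.gel c.1) t).ncard ≤ (K.gel '' ↑c.2.1.toFinset).ncard := by
          refine Set.ncard_le_ncard (fun y hy => ?_) (Set.toFinite _)
          obtain ⟨hyt, -, hyy⟩ := hy
          obtain ⟨x, hx, rfl⟩ := K.gel_surj hyt
          have hs := hscan (x / 128) (by omega)
          simp only [scanBlock, List.all_eq_true, List.mem_range, Bool.and_eq_true] at hs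
          obtain ⟨-, hs2⟩ := hs (x % 128) (Nat.mod_lt _ (by omega))
          rw [show Nat.add (x % 128) (Nat.mul 128 (x / 128)) = x from Nat.mod_add_div x 128] at hs2
          have h0 : mulX K.ty K.X.ε x x = c.1 := K.gel_inj (K.mul_lt hx hx) hc
            ((K.gel_mul hx hx).trans hyy)
          have h := hs2 c (List.getElem_mem _)
          simp only [h0, Nat.beq_refl, Bool.not_true, Bool.false_or, List.any_eq_true, Nat.beq_eq] at h
          obtain ⟨r, hr, rfl⟩ := h
          exact ⟨r, by simpa using hr, rfl⟩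
      _ ≤ _ := (Set.ncard_image_le (Set.toFinite _)).trans (by
          rw [Set.ncard_coe_finset]; exact List.toFinset_card_le _)
  have hlower : ∀ k < cls.length, (cls.getD k (0, [], [])).2.2.length ≤
      (rootSet t (K.gel (cls.getD k (0, [], [])).1)).ncard := by
    intro k hk
    rw [List.getD_eq_getElem _ _ hk]
    set c := cls[k]
    obtain ⟨⟨hc, hinc⟩, hlo⟩ := hcls c (List.getElem_mem _)
    rw [← List.toFinset_card_of_nodup (nodup_of_increasing hinc), ← Set.ncard_coe_finset,
      ← Set.InjOn.ncard_image (f := K.gel)]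
    · refine Set.ncard_le_ncard ?_ (Set.toFinite _)
      rintro _ ⟨r, hr, rfl⟩
      simp only [List.coe_toFinset, Set.mem_setOf_eq] at hr
      obtain ⟨⟨h1, h2⟩, h3⟩ := hlo r hr
      exact ⟨by rw [← K.gel_mul (hblt h1) (hblt hc), ← K.gel_mul (hblt hc) (hblt h1)]; exact congrArg K.gel h3,
        K.gel_comm r, by rw [← K.gel_mul (hblt h1) (hblt h1)]; exact (congrArg K.gel h2).trans (K.gel_z ht1)⟩
    · intro u hu v hv h
      simp only [List.coe_toFinset, Set.mem_setOf_eq] at hu hv
      exact K.gel_inj (hblt (hlo u hu).1.1) (hblt (hlo v hv).1.1) h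
  have key : ∀ (order rem : List ℕ), (∀ g : G, g * t * g⁻¹ * t = t * (g * t * g⁻¹) → g * t * g⁻¹ ≠ t →
      ∀ n ∈ inv, K.gel n.1 = g * t * g⁻¹ → n.1 < 21504 → n.2.1 < cls.length → n.2.2 < 21504 →
        g * t * g⁻¹ = K.gel n.2.2 * K.gel (cls.getD n.2.1 (0, [], [])).1 * (K.gel n.2.2)⁻¹ → n.2.1 ∈ rem) →
      cascade cls order rem = some fin →
      ∀ g : G, g * t * g⁻¹ * t = t * (g * t * g⁻¹) → g * t * g⁻¹ ≠ t →
        ∀ n ∈ inv, K.gel n.1 = g * t * g⁻¹ → n.1 < 21504 → n.2.1 < cls.length → n.2.2 < 21504 →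
          g * t * g⁻¹ = K.gel n.2.2 * K.gel (cls.getD n.2.1 (0, [], [])).1 * (K.gel n.2.2)⁻¹ → n.2.1 ∈ fin := by
    intro order
    induction order with
    | nil =>
      intro rem hrem h
      simp only [cascade, Option.some.injEq] at h
      exact h ▸ hrem
    | cons k ks ih =>
      intro rem hrem h
      rw [cascade] at h
      cases hb : (rem.all fun l => Nat.blt (cls.getD k (0, [], [])).2.1.length
          (cls.getD l (0, [], [])).2.2.length) with
      | false => rw [hb] at h; simp at h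
      | true =>
        rw [hb] at h
        refine ih _ (fun g hg hne n hn hgel h1 h2 h3 hconj => ?_) h
        refine List.mem_filter.2 ⟨hrem g hg hne n hn hgel h1 h2 h3 hconj, ?_⟩
        rw [Bool.not_eq_true']
        refine Bool.eq_false_iff.2 fun hk => ?_
        have hk := Nat.eq_of_beq_eq_true hk
        have hy1 : g⁻¹ * t * g⁻¹⁻¹ * t = t * (g⁻¹ * t * g⁻¹⁻¹) := by
          have := congrArg (fun y => g⁻¹ * y * g) hg
          simp only [inv_inv] at *
          simp [mul_assoc] at this ⊢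
          exact this.symm
        have hy2 : g⁻¹ * t * g⁻¹⁻¹ ≠ t := fun h => hne (by
          have := congrArg (fun y => g * y * g⁻¹) h
          simpa [mul_assoc] using this.symm)
        have hysq : g⁻¹ * t * g⁻¹⁻¹ * (g⁻¹ * t * g⁻¹⁻¹) = 1 := by
          rw [show g⁻¹ * t * g⁻¹⁻¹ * (g⁻¹ * t * g⁻¹⁻¹) = g⁻¹ * (t * t) * g by group, ht2]; group
        have hyne : g⁻¹ * t * g⁻¹⁻¹ ≠ 1 := fun h => ht1 (by
          have := congrArg (fun y => g * y * g⁻¹) h
          simpa [mul_assoc] using this)
        obtain ⟨m, hm, m1, m3, m2, hmg, hmc⟩ := hclassify _ hy1 hysq hyne hy2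
        have hmrem := hrem g⁻¹ hy1 hy2 m hm hmg m1 m2 m3 hmc
        have hlt := hblt (List.all_eq_true.1 hb _ hmrem)
        have hu := hupper k (hk ▸ h2)
        have hl := hlower _ m2
        have e1 : (rootSet (g * t * g⁻¹) t).ncard = (rootSet (K.gel (cls.getD k (0, [], [])).1) t).ncard := by
          rw [hconj, hk]
          conv_rhs => rw [← ncard_rootSet_conj _ _ (K.gel n.2.2)]
          rw [show K.gel n.2.2 * t * (K.gel n.2.2)⁻¹ = t by rw [K.gel_comm, mul_inv_cancel_right]]
        have e2 : (rootSet (g * t * g⁻¹) t).ncard = (rootSet t (g⁻¹ * t * g⁻¹⁻¹)).ncard := by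
          conv_rhs => rw [← ncard_rootSet_conj _ _ g]
          rw [show g * (g⁻¹ * t * g⁻¹⁻¹) * g⁻¹ = t by group]
        have e3 : (rootSet t (g⁻¹ * t * g⁻¹⁻¹)).ncard =
            (rootSet t (K.gel (cls.getD m.2.1 (0, [], [])).1)).ncard := by
          rw [hmc]
          conv_rhs => rw [← ncard_rootSet_conj _ _ (K.gel m.2.2)]
          rw [show K.gel m.2.2 * t * (K.gel m.2.2)⁻¹ = t by rw [K.gel_comm, mul_inv_cancel_right]]
        omega
  have hx2 : g * t * g⁻¹ * (g * t * g⁻¹) = 1 := by
    rw [show g * t * g⁻¹ * (g * t * g⁻¹) = g * (t * t) * g⁻¹ by group, ht2]; group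
  have hx1 : g * t * g⁻¹ ≠ 1 := fun h => ht1 (by simpa using h)
  obtain ⟨n, hn, n1, n3, n2, hng, hnc⟩ := hclassify _ hg hx2 hx1 hne
  exact ⟨n, hn, key order (List.range cls.length)
    (fun _ _ _ _ _ _ _ h2 _ _ => List.mem_range.2 h2) hcas g hg hne n hn hng n1 n2 n3 hnc, n1, hng⟩

end Coord

end Cfsg.Lib.HeldType.CentShape
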