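import Cfsg.Agent.Lib.HeldType.CentShape.Coord
import Cfsg.Agent.Lib.HeldType.Cent

/-!
# The centraliser of a transvection of `SL(5, 2)` in normal form
-/

set_option autoImplicit false
set_option maxRecDepth 100000
set_option linter.unusedSectionVars false

namespace Cfsg.Lib.HeldType.CentShape

open Matrix
open Cfsg.Lib.HeldType (sl valid mulC oneC zC)

/-- The code of the involution of the model. -/
def mA : ℕ := 43136
/-- The code of the element of order seven of the model. -/
def mCc : ℕ := 18048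

/-- The code of a frame element in the model. -/
def mE (i : ℕ) : ℕ := Nat.add (2 * 2 ^ i) oneC

/-- The product of the codes of a word. -/
def mWord (w : List ℕ) : ℕ :=
  w.foldl (fun r g => mulC r (bif Nat.beq g 0 then mA else mCc)) oneC

theorem model_valid : valid mA = true ∧ valid mCc = true ∧ (∀ i < 6, valid (mE i) = true) ∧
    valid oneC = true ∧ valid zC = true := by decide +kernel

theorem model_frame : ∀ i < 6, mulC (mE i) (mE i) = oneC ∧ mulC zC (mE i) = mulC (mE i) zC ∧
    ∀ j < 6, mulC (mE i) (mE j) =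
      bif Nat.beq (want i j) 0 then mulC (mE j) (mE i) else mulC zC (mulC (mE j) (mE i)) := by
  decide +kernel

theorem model_z : mulC zC zC = oneC ∧ mulC mA zC = mulC zC mA ∧ mulC mCc zC = mulC zC mCc ∧
    mulC mA mA = oneC ∧ mWord [1, 1, 1, 1, 1, 1, 1] = oneC ∧ mWord [0, 1, 0, 1, 0, 1] = oneC ∧
    mWord [0, 1, 0, 1, 1, 1, 1, 1, 1, 0, 1, 0, 1, 1, 1, 1, 1, 1, 0, 1, 0, 1, 1, 1, 1, 1, 1,
      0, 1, 0, 1, 1, 1, 1, 1, 1] = oneC := by decide +kernel

theorem model_code : ∀ x < 128, valid (Nat.add x oneC) = true ∧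
    Nat.div (Nat.add x oneC) 128 = 273 := by decide +kernel

theorem model_ι : ∀ x < 128, ∀ i < 6,
    mulC (Nat.add x oneC) (mE i) = Nat.add (mulQ x (genQ i)) oneC ∧
    mulC (Nat.add x oneC) zC = Nat.add (mulQ x 1) oneC := by decide +kernel

theorem model_conj : ∀ i < 6,
    mulC mA (mE i) = mulC (Nat.add (imgA 0 i) oneC) mA ∧
    mulC mCc (mE i) = mulC (Nat.add (imgC i) oneC) mCc := by decide +kernel

theorem model_words : ∀ i < 168, valid (mWord (wordAux 168 i)) = true ∧
    ∀ x < 128, mulC (Nat.add x oneC) (mWord (wordAux 168 i)) / 128 = mWord (wordAux 168 i) / 128 := by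
  decide +kernel

theorem model_rows : ((List.range 168).map fun i => mWord (wordAux 168 i) / 128).Nodup := by
  decide +kernel

theorem model_centre : ∀ m ∈ Cfsg.Lib.HeldType.allRows, ∀ q < 128,
    (∀ i < 6, mulC (128 * m + q) (mE i) = mulC (mE i) (128 * m + q)) → m = 273 := by
  decide +kernel

/-- Split data gives a normal form. -/
theorem exists_coord_of {P : Type*} [Group P] [Finite P] (F : Frame P) {a c : P} {ty : ℕ}
    (hty : ty < 2) (hza : Commute F.z a) (hzc : Commute F.z c)
    (hA : ∀ i < 6, a * F.e i * a⁻¹ = F.ι (imgA ty i))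
    (hC : ∀ i < 6, c * F.e i * c⁻¹ = F.ι (imgC i))
    (ha : a * a = 1) (hc : c ^ 7 = 1) (hac : a * c * (a * c) * (a * c) = 1)
    (hcm : a * c * a * c ^ 6 * (a * c * a * c ^ 6) * (a * c * a * c ^ 6) * (a * c * a * c ^ 6) = 1)
    (hcard : Nat.card P = 21504)
    (hinj : Function.Injective fun p : Fin 128 × Fin 168 =>
      F.ι p.1 * ((wordAux 168 p.2).map fun g => if g = 0 then a else c).prod)
    (hcent : ∀ g : P, (∀ i < 6, Commute g (F.e i)) → ∃ x < 128, F.ι x = g) :
    ∃ K : Coord P, K.ty = ty ∧ K.X.ε = 0 := by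
  let Q : Subgroup P := Subgroup.closure ({F.z} ∪ F.e '' {i | i < 6})
  have hzQ : F.z ∈ Q := Subgroup.subset_closure (Or.inl rfl)
  have heQ : ∀ i < 6, F.e i ∈ Q := fun i hi => Subgroup.subset_closure (Or.inr ⟨i, hi, rfl⟩)
  let H : Subgroup P :=
    { carrier := {g | ∃ x < 128, F.ι x = g}
      one_mem' := ⟨0, by omega, F.ι_zero⟩
      mul_mem' := by
        rintro _ _ ⟨x, hx, rfl⟩ ⟨y, hy, rfl⟩
        exact ⟨mulQ x y, (Frame.word_facts x hx y hy).2, F.ι_mul hx hy⟩
      inv_mem' := by
        rintro _ ⟨x, hx, rfl⟩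
        obtain ⟨-, hi⟩ := Frame.mulQ_cancel x hx x hx
        have hxx := (Frame.word_facts x hx x hx).2
        have h3 := (Frame.word_facts _ hxx x hx).2
        refine ⟨mulQ (mulQ x x) x, h3, eq_inv_of_mul_eq_one_left ?_⟩
        rw [← F.ι_mul h3 hx, hi, F.ι_zero] }
  have hQH : ∀ g ∈ Q, ∃ x < 128, F.ι x = g := by
    have : Q ≤ H := by
      rw [Subgroup.closure_le]
      rintro g (hg | ⟨i, hi, rfl⟩)
      · exact ⟨1, by omega, by rw [F.ι_one, Set.mem_singleton_iff.1 hg]⟩
      · refine ⟨genQ i, Frame.genQ_facts i (Nat.le_of_lt hi), ?_⟩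
        rw [F.ι_gen (Nat.le_of_lt hi)]
        exact if_neg (Nat.ne_of_lt hi)
    exact fun g hg => this hg
  have hιQ : ∀ x, F.ι x ∈ Q := F.mem_of_gen hzQ heQ
  have hQcard : Nat.card Q = 128 := by
    have : Function.Bijective (fun x : Fin 128 => (⟨F.ι x, hιQ x⟩ : Q)) :=
      ⟨fun u v h => Fin.ext (F.ι_inj u.2 v.2 (congrArg Subtype.val h)),
        fun ⟨g, hg⟩ => let ⟨x, hx, e⟩ := hQH g hg; ⟨⟨x, hx⟩, Subtype.ext e⟩⟩
    rw [← Nat.card_eq_of_bijective _ this, Nat.card_fin]
  have hbij := (Nat.bijective_iff_injective_and_card _).2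
    ⟨hinj, by rw [Nat.card_prod, Nat.card_fin, Nat.card_fin, hcard]⟩
  have hgen : Subgroup.closure ((Q : Set P) ∪ {a, c}) = ⊤ := by
    rw [eq_top_iff]
    intro g _
    obtain ⟨⟨x, i⟩, rfl⟩ := hbij.2 g
    refine mul_mem (Subgroup.subset_closure (Or.inl (hιQ x))) (list_prod_mem fun u hu => ?_)
    obtain ⟨k, -, rfl⟩ := List.mem_map.1 hu
    split
    exacts [Subgroup.subset_closure (Or.inr (Or.inl rfl)), Subgroup.subset_closure (Or.inr (Or.inr rfl))]
  have hstab : ∀ g : P, Commute F.z g → (∀ i < 6, g * F.e i * g⁻¹ ∈ Q) →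
      g ∈ Subgroup.normalizer (Q : Set P) := by
    intro g hgz he
    rw [Subgroup.mem_normalizer_iff_map_conj_eq]
    refine Subgroup.eq_of_le_of_card_ge ?_
      (le_of_eq (Subgroup.card_map_of_injective (MulEquiv.injective _)).symm)
    rintro _ ⟨q, hq, rfl⟩
    obtain ⟨x, -, rfl⟩ := hQH q hq
    exact F.mem_of_gen (H := Q.comap (MulAut.conj g).toMonoidHom)
      (show g * F.z * g⁻¹ ∈ Q by rw [← hgz.eq, mul_inv_cancel_right]; exact hzQ)
      (fun i hi => he i hi) x
  have hnormal : Q.Normal := by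
    rw [← Subgroup.normalizer_eq_top_iff, eq_top_iff, ← hgen, Subgroup.closure_le]
    rintro g (hg | hg | hg)
    · exact Subgroup.le_normalizer hg
    · rw [hg]; exact hstab a hza fun i hi => (hA i hi).symm ▸ hιQ _
    · rw [hg]; exact hstab c hzc fun i hi => (hC i hi).symm ▸ hιQ _
  have hcQ : Subgroup.centralizer (Q : Set P) ≤ Q := fun g hg => by
    obtain ⟨x, -, rfl⟩ := hcent g fun i hi => (Subgroup.mem_centralizer_iff.1 hg _ (heQ i hi)).symm
    exact hιQ x
  let S : Shape P := ⟨Q, hnormal, hQcard, hcQ, F, hzQ, heQ⟩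
  exact ⟨⟨S, ⟨a, c, F.z, 0, by omega, F.z_sq, fun g => (S.z_central g).symm, by rw [pow_zero]; exact ha,
    hc, hac, by rw [pow_zero]; exact hcm⟩, ty, hty, rfl, hA, hC, hgen, hcard⟩, rfl, rfl⟩

open Classical in
/-- The element of the centraliser with a given code. -/
noncomputable def elM {s : SpecialLinearGroup (Fin 5) (ZMod 2)}
    (hs : (s : Matrix (Fin 5) (Fin 5) (ZMod 2)) = transvection 0 1 1) (x : ℕ) :
    Subgroup.centralizer ({s} : Set (SpecialLinearGroup (Fin 5) (ZMod 2))) :=
  if h : valid x = true then ⟨sl x, sl_mem hs h⟩ else 1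

theorem coe_elM {s : SpecialLinearGroup (Fin 5) (ZMod 2)}
    (hs : (s : Matrix (Fin 5) (Fin 5) (ZMod 2)) = transvection 0 1 1) {x : ℕ} (hx : valid x = true) :
    (elM hs x : SpecialLinearGroup (Fin 5) (ZMod 2)) = sl x := by
  rw [elM, dif_pos hx]

attribute [local irreducible] elM sl valid mulC

/-- The centraliser of the transvection has a normal form, split with two invariant subspaces. -/
theorem exists_model {s : SpecialLinearGroup (Fin 5) (ZMod 2)}
    (hs : (s : Matrix (Fin 5) (Fin 5) (ZMod 2)) = transvection 0 1 1) :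
    ∃ K : Coord (Subgroup.centralizer ({s} : Set (SpecialLinearGroup (Fin 5) (ZMod 2)))),
      K.ty = 0 ∧ K.X.ε = 0 := by
  classical
  let C := Subgroup.centralizer ({s} : Set (SpecialLinearGroup (Fin 5) (ZMod 2)))
  let φ : ℕ → C := elM hs
  have hφ : ∀ x, valid x = true → (φ x : SpecialLinearGroup (Fin 5) (ZMod 2)) = sl x := fun x hx =>
    coe_elM hs hx
  have hmul : ∀ x y, valid x = true → valid y = true → φ (mulC x y) = φ x * φ y := fun x y hx hy =>
    Subtype.ext (by
      rw [Subgroup.coe_mul, hφ _ (valid_mulC hx hy), hφ x hx, hφ y hy, sl_mul hx hy])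
  have hinj : ∀ x y, valid x = true → valid y = true → φ x = φ y → x = y := fun x y hx hy h =>
    sl_inj hx hy (by rw [← hφ x hx, ← hφ y hy, h])
  have hone : φ oneC = 1 := Subtype.ext (by rw [hφ _ model_valid.2.2.2.1, sl_oneC]; rfl)
  obtain ⟨vA, vC, vE, v1, vz⟩ := model_valid
  obtain ⟨zz, za, zc, aa, c7, ac, cm⟩ := model_z
  have hz2 : φ zC * φ zC = 1 := by rw [← hmul _ _ vz vz, zz, hone]
  have hzne : φ zC ≠ 1 := fun h => absurd (hinj _ _ vz v1 (h.trans hone.symm)) (by decide)
  let F : Frame C :=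
    { z := φ zC
      e := fun i => φ (mE i)
      z_ne := hzne
      z_sq := hz2
      comm_z := fun i hi => by
        show φ zC * φ (mE i) = φ (mE i) * φ zC
        rw [← hmul _ _ vz (vE i hi), ← hmul _ _ (vE i hi) vz, (model_frame i hi).2.1]
      e_sq := fun i hi => by rw [← hmul _ _ (vE i hi) (vE i hi), (model_frame i hi).1, hone]
      e_comm := fun i hi j hj => by
        rw [← hmul _ _ (vE i hi) (vE j hj), (model_frame i hi).2.2 j hj]
        unfold want
        split
        · rw [show Nat.beq 1 0 = false from rfl, pow_one, cond_false,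
            hmul _ _ vz (valid_mulC (vE j hj) (vE i hi)), hmul _ _ (vE j hj) (vE i hi)]
        · rw [Nat.beq_refl 0, pow_zero, one_mul, cond_true, hmul _ _ (vE j hj) (vE i hi)] }
  have hι : ∀ x < 128, F.ι x = φ (Nat.add x oneC) := by
    intro x hx
    have key : ∀ w : List ℕ, (∀ i ∈ w, i ≤ 6) → ∀ r < 128,
        φ (Nat.add r oneC) * (w.map F.gen).prod = φ (Nat.add (Frame.mulWord r w) oneC) := by
      intro w
      induction w with
      | nil => intro _ r _; simp [Frame.mulWord]
      | cons g w ih =>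
        intro hw' r hr
        obtain ⟨hg, hw⟩ := List.forall_mem_cons.1 hw'
        have hlt := (Frame.word_facts r hr _ (Frame.genQ_facts g hg)).2
        rw [List.map_cons, List.prod_cons, ← mul_assoc]
        have : φ (Nat.add r oneC) * F.gen g = φ (Nat.add (mulQ r (genQ g)) oneC) := by
          by_cases h6 : g = 6
          · subst h6
            rw [show F.gen 6 = φ zC from if_pos rfl, ← hmul _ _ (model_code r hr).1 vz,
              (model_ι r hr 0 (by omega)).2]
            rfl
          · rw [show F.gen g = φ (mE g) from if_neg h6, ← hmul _ _ (model_code r hr).1 (vE g (by omega)),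
              (model_ι r hr g (by omega)).1]
        rw [this, ih hw _ hlt]
        rfl
    have h := key (qword x) (Frame.word_lt x hx).1 0 (by omega)
    rw [(Frame.word_lt x hx).2, show Nat.add 0 oneC = oneC from Nat.zero_add _, hone, one_mul,
      ← F.ι_eq_prod hx] at h
    exact h
  have hw : ∀ w : List ℕ, valid (mWord w) = true ∧
      φ (mWord w) = (w.map fun g => if g = 0 then φ mA else φ mCc).prod := by
    intro w
    induction w using List.reverseRecOn with
    | nil => exact ⟨v1, hone⟩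
    | append_singleton w g ih =>
      rw [show mWord (w ++ [g]) = mulC (mWord w) (bif Nat.beq g 0 then mA else mCc) by simp [mWord]]
      simp only [List.map_append, List.prod_append, List.map_cons, List.map_nil, List.prod_cons,
        List.prod_nil, mul_one]
      have hv : valid (bif Nat.beq g 0 then mA else mCc) = true := by
        cases Nat.beq g 0
        exacts [vC, vA]
      refine ⟨valid_mulC ih.1 hv, ?_⟩
      rw [hmul _ _ ih.1 hv, ih.2]
      by_cases hg : g = 0
      · subst hg; rfl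
      · rw [show Nat.beq g 0 = false from Bool.eq_false_iff.2 fun h => hg (Nat.eq_of_beq_eq_true h),
          if_neg hg]
        rfl
  have hconj : ∀ g, valid g = true → ∀ i x, i < 6 → x < 128 →
      mulC g (mE i) = mulC (Nat.add x oneC) g → φ g * F.e i * (φ g)⁻¹ = F.ι x := by
    intro g hg i x hi hx h
    rw [mul_inv_eq_iff_eq_mul, hι x hx, ← hmul _ _ (model_code x hx).1 hg]
    show φ g * φ (mE i) = _
    rw [← hmul _ _ hg (vE i hi), h]
  refine exists_coord_of F (a := φ mA) (c := φ mCc) (ty := 0) (by omega) ?_ ?_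
    (fun i hi => hconj mA vA i _ hi (imgA_half 0 (by omega) i hi).1 (model_conj i hi).1)
    (fun i hi => hconj mCc vC i _ hi (imgC_half i hi).1 (model_conj i hi).2) ?_ ?_ ?_ ?_ ?_ ?_ ?_
  · show φ zC * φ mA = φ mA * φ zC
    rw [← hmul _ _ vz vA, ← hmul _ _ vA vz, za]
  · show φ zC * φ mCc = φ mCc * φ zC
    rw [← hmul _ _ vz vC, ← hmul _ _ vC vz, zc]
  · rw [← hmul _ _ vA vA, aa, hone]
  · have h := (hw [1, 1, 1, 1, 1, 1, 1]).2
    rw [c7, hone] at h
    rw [h]; simp [pow_succ, mul_assoc]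
  · have h := (hw [0, 1, 0, 1, 0, 1]).2
    rw [ac, hone] at h
    rw [h]; simp [mul_assoc]
  · have h := (hw [0, 1, 0, 1, 1, 1, 1, 1, 1, 0, 1, 0, 1, 1, 1, 1, 1, 1, 0, 1, 0, 1, 1, 1, 1, 1, 1,
      0, 1, 0, 1, 1, 1, 1, 1, 1]).2
    rw [cm, hone] at h
    rw [h]; simp [pow_succ, mul_assoc]
  · exact Cfsg.Agent.S0445.result s hs
  · rintro ⟨x, i⟩ ⟨y, j⟩ h
    have hw' : ∀ w, (w.map fun g => if g = 0 then φ mA else φ mCc).prod = φ (mWord w) := fun w => (hw w).2.symm
    simp only [hw'] at h
    rw [hι _ x.2, hι _ y.2, ← hmul _ _ (model_code x x.2).1 (hw _).1,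
      ← hmul _ _ (model_code y y.2).1 (hw _).1] at h
    have h' := hinj _ _ (valid_mulC (model_code x x.2).1 (hw _).1)
      (valid_mulC (model_code y y.2).1 (hw _).1) h
    have hd := congrArg (· / 128) h'
    simp only [(model_words i i.2).2 x x.2, (model_words j j.2).2 y y.2] at hd
    obtain rfl : i = j := Fin.ext (List.inj_on_of_nodup_map model_rows
      (List.mem_range.2 i.2) (List.mem_range.2 j.2) hd)
    rw [hmul _ _ (model_code x x.2).1 (hw _).1, hmul _ _ (model_code y y.2).1 (hw _).1] at h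
    have hxy := mul_right_cancel h
    rw [← hι _ x.2, ← hι _ y.2] at hxy
    rw [Fin.ext (F.ι_inj x.2 y.2 hxy)]
  · intro g hg
    obtain ⟨x, hx, hxg⟩ := sl_surj hs g.2
    have hgx : g = φ x := Subtype.ext (by rw [hφ x hx, hxg])
    obtain ⟨m, hm, q, hq, rfl⟩ : ∃ m ∈ allRows, ∃ q < 128, x = 128 * m + q := by
      have h := mem_allC hx
      simp only [allC, List.mem_flatMap, List.mem_map, List.mem_range] at h
      obtain ⟨m, hm, q, hq, rfl⟩ := h
      exact ⟨m, hm, q, hq, rfl⟩
    have h273 := model_centre m hm q hq fun i hi => hinj _ _ (valid_mulC hx (vE i hi))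
      (valid_mulC (vE i hi) hx) (by
        rw [hmul _ _ hx (vE i hi), hmul _ _ (vE i hi) hx, ← hgx]
        exact (hg i hi).eq)
    subst h273
    refine ⟨q, hq, ?_⟩
    rw [hι q hq, hgx, show Nat.add q oneC = 128 * 273 + q from by show q + 34944 = _; omega]

end Cfsg.Lib.HeldType.CentShape
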