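import Cfsg.Agent.Lib.HeldType.CentShape.Normal
import Cfsg.Agent.Lib.HeldType.CentShape.Model
import Cfsg.Agent.Lib.HeldType.CentShape.Kill.S1
import Cfsg.Agent.Lib.HeldType.CentShape.Kill.U0
import Cfsg.Agent.Lib.HeldType.CentShape.Kill.U1
import Cfsg.Agent.Lib.ZStar.Main

/-!
# The shape of an involution centraliser `2^{1+6}.L₃(2)`

Unless it is the centraliser of a transvection of `SL(5, 2)`, all conjugates of the involution in it
lie in one normal elementary abelian subgroup of order sixteen.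
-/

set_option autoImplicit false
set_option maxRecDepth 100000
set_option linter.unusedSectionVars false
set_option linter.style.haveILetI false

namespace Cfsg.Lib.HeldType.CentShape

open Matrix
open Frame (extQ)

theorem small_closed : ∀ g < 2, ∀ x < 16, extQ (imgL 1 g) x < 16 := by decide +kernel

theorem small_mul : ∀ x < 16, ∀ y < 16, mulQ x y < 16 ∧ mulQ x x = 0 := by decide +kernel

theorem small_conj : ∀ q < 128, ∀ x < 16, ∃ y < 16, mulQ q x = mulQ y q := by decide +kernel

theorem small_class : (Kill.invU1.all fun n => !Nat.beq n.2.1 0 || (Nat.ble 2 n.1 && Nat.blt n.1 16)) = true ∧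
    ((List.range 14).all fun i => Kill.invU1.any fun n => Nat.beq n.1 (i + 2) && Nat.beq n.2.1 0) = true := by
  decide +kernel

theorem fin_lengths : Kill.clsS1.length = 4 ∧ Kill.clsU0.length = 3 ∧ Kill.clsU1.length = 4 := by
  decide +kernel

variable {G : Type*} [Group G] [Finite G] {t : G}

/-- The three possibilities for the centraliser. -/
theorem shape_cases (ht : orderOf t = 2) (Q : Subgroup (Subgroup.centralizer ({t} : Set G))) [Q.Normal]
    (hQ : Cfsg.IsExtraspecial 2 Q) (hcard : Nat.card Q = 2 ^ 7)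
    (hplus : ∃ E : Subgroup Q, Cfsg.IsElementaryAbelian 2 E ∧ Nat.card E = 2 ^ 4)
    (h2c : Subgroup.centralizer (Q : Set (Subgroup.centralizer ({t} : Set G))) ≤ Q)
    (e : (Subgroup.centralizer ({t} : Set G)) ⧸ Q ≃* SpecialLinearGroup (Fin 3) (ZMod 2))
    {s : SpecialLinearGroup (Fin 5) (ZMod 2)}
    (hs : (s : Matrix (Fin 5) (Fin 5) (ZMod 2)) = transvection 0 1 1) :
    Nonempty ((Subgroup.centralizer ({t} : Set G)) ≃*
        Subgroup.centralizer ({s} : Set (SpecialLinearGroup (Fin 5) (ZMod 2)))) ∨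
    (∀ g : G, g * t * g⁻¹ * t = t * (g * t * g⁻¹) → g * t * g⁻¹ = t) ∨
    ∃ A : Subgroup G, Nat.card A = 16 ∧ (∀ a ∈ A, a * a = 1) ∧ t ∈ A ∧
      A ≤ Subgroup.centralizer ({t} : Set G) ∧
      (∀ g ∈ Subgroup.centralizer ({t} : Set G), ∀ a ∈ A, g * a * g⁻¹ ∈ A) ∧
      (∀ g : G, g * t * g⁻¹ * t = t * (g * t * g⁻¹) → g * t * g⁻¹ ∈ A) ∧
      ∀ a ∈ A, a ≠ 1 → a ≠ t → ∀ b ∈ A, b ≠ 1 → b ≠ t →
        ∃ g ∈ Subgroup.centralizer ({t} : Set G), g * a * g⁻¹ = b := by
  have ht1 : t ≠ 1 := fun h => by rw [h, orderOf_one] at ht; omega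
  obtain ⟨K, -⟩ := exists_coord Q hQ hcard hplus h2c e
  obtain ⟨M, hMty, hMε⟩ := exists_model hs
  have hty := K.ty_lt
  have hε := K.X.ε_lt
  rcases Nat.lt_or_ge K.ty 1 with h0 | h1 <;> rcases Nat.lt_or_ge K.X.ε 1 with e0 | e1
  · exact Or.inl (K.nonempty_iso M (by omega) (by omega))
  · refine Or.inr (Or.inl fun g hg => ?_)
    have hT : K.ty = 0 := by omega
    have hE : K.X.ε = 1 := by omega
    by_contra hne
    obtain ⟨n, -, hn, -⟩ := K.fused_classes ht (cls := Kill.clsS1) (inv := Kill.invS1)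
      (by rw [hT, hE]; exact Kill.scanS1) (by rw [hT, hE]; exact Kill.witnessS1)
      (by rw [fin_lengths.1]; exact Kill.cascadeS1) hg hne
    simp at hn
  · refine Or.inr (Or.inl fun g hg => ?_)
    have hT : K.ty = 1 := by omega
    have hE : K.X.ε = 0 := by omega
    by_contra hne
    obtain ⟨n, -, hn, -⟩ := K.fused_classes ht (cls := Kill.clsU0) (inv := Kill.invU0)
      (by rw [hT, hE]; exact Kill.scanU0) (by rw [hT, hE]; exact Kill.witnessU0)
      (by rw [fin_lengths.2.1]; exact Kill.cascadeU0) hg hne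
    simp at hn
  · have hT : K.ty = 1 := by omega
    have hE : K.X.ε = 1 := by omega
    obtain ⟨hclassA, hclassB⟩ := small_class
    simp only [List.all_eq_true, List.any_eq_true, Bool.or_eq_true, Bool.not_eq_true', Bool.and_eq_true,
      List.mem_range, Nat.beq_eq] at hclassA hclassB
    have hgel : ∀ x < 128, K.gel x = (K.S.F.ι x : G) := fun x hx => by rw [Coord.gel, K.el_code hx]
    let A : Subgroup G :=
      { carrier := {g | ∃ x < 16, K.gel x = g}
        one_mem' := ⟨0, by omega, by rw [Coord.gel, K.el_one]; rfl⟩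
        mul_mem' := by
          rintro _ _ ⟨x, hx, rfl⟩ ⟨y, hy, rfl⟩
          refine ⟨mulQ x y, (small_mul x hx y hy).1, ?_⟩
          rw [hgel _ (by have := (small_mul x hx y hy).1; omega), hgel x (by omega), hgel y (by omega),
            K.S.F.ι_mul (by omega) (by omega), Subgroup.coe_mul]
        inv_mem' := by
          rintro _ ⟨x, hx, rfl⟩
          refine ⟨x, hx, eq_inv_of_mul_eq_one_left ?_⟩
          rw [hgel x (by omega), ← Subgroup.coe_mul, ← K.S.F.ι_mul (by omega) (by omega),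
            (small_mul x hx x hx).2, K.S.F.ι_zero]
          rfl }
    have hnorm : ∀ g : ↥(Subgroup.centralizer ({t} : Set G)), ∀ a ∈ A, (g : G) * a * (g : G)⁻¹ ∈ A := by
      intro g
      let N : Submonoid ↥(Subgroup.centralizer ({t} : Set G)) :=
        { carrier := {g | ∀ a ∈ A, (g : G) * a * (g : G)⁻¹ ∈ A}
          one_mem' := fun a ha => by simpa using ha
          mul_mem' := fun {u v} hu hv a ha => by
            have := hu _ (hv a ha)
            simpa [mul_assoc] using this }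
      let N' : Subgroup ↥(Subgroup.centralizer ({t} : Set G)) :=
        { N with
          inv_mem' := fun {u} hu => by
            obtain ⟨n, hn⟩ := ((isOfFinOrder_of_finite u).mem_powers_iff_mem_zpowers).2
              (inv_mem (Subgroup.mem_zpowers u))
            exact hn ▸ pow_mem (show u ∈ N from hu) n }
      have hN : N' = ⊤ := by
        rw [eq_top_iff, ← K.gen, Subgroup.closure_le]
        have hlet : ∀ k < 2, ∀ a ∈ A, ((K.X.letter k : ↥(Subgroup.centralizer ({t} : Set G))) : G) * a *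
            ((K.X.letter k : ↥(Subgroup.centralizer ({t} : Set G))) : G)⁻¹ ∈ A := by
          rintro k hk _ ⟨x, hx, rfl⟩
          have hlt := small_closed k hk x hx
          refine ⟨_, hlt, ?_⟩
          rw [hgel x (by omega), hgel _ (by omega), ← Subgroup.coe_inv, ← Subgroup.coe_mul,
            ← Subgroup.coe_mul, K.conj_letter hk (by omega), hT]
        rintro u (hu | hu | hu)
        · rintro _ ⟨x, hx, rfl⟩
          obtain ⟨q, hq, rfl⟩ := K.S.F.exists_code K.S.z_mem K.S.e_mem K.S.card hu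
          obtain ⟨y, hy, hqy⟩ := small_conj q hq x hx
          refine ⟨y, hy, ?_⟩
          rw [hgel x (by omega), hgel y (by omega), eq_mul_inv_iff_mul_eq, ← Subgroup.coe_mul,
            ← Subgroup.coe_mul, ← K.S.F.ι_mul (by omega) hq, ← K.S.F.ι_mul hq (by omega), hqy]
        · rw [hu]; exact hlet 0 (by omega)
        · rw [Set.mem_singleton_iff.1 hu]; exact hlet 1 (by omega)
      exact (hN.ge (Subgroup.mem_top g) : g ∈ N')
    refine Or.inr (Or.inr ⟨A, ?_, ?_, ⟨1, by omega, K.gel_z ht1⟩, ?_, fun g hg => hnorm ⟨g, hg⟩, ?_, ?_⟩)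
    · have : Function.Bijective (fun x : Fin 16 => (⟨K.gel x, x, x.2, rfl⟩ : A)) :=
        ⟨fun u v h => Fin.ext (K.gel_inj (by have := u.2; omega) (by have := v.2; omega) (congrArg (fun a : A => (a : G)) h)),
          fun ⟨g, x, hx, e⟩ => ⟨⟨x, hx⟩, Subtype.ext e⟩⟩
      rw [← Nat.card_eq_of_bijective _ this, Nat.card_fin]
    · rintro _ ⟨x, hx, rfl⟩
      rw [hgel x (by omega), ← Subgroup.coe_mul, ← K.S.F.ι_mul (by omega) (by omega),
        (small_mul x hx x hx).2, K.S.F.ι_zero]
      rfl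
    · rintro _ ⟨x, -, rfl⟩
      exact (K.el x).2
    · intro g hg
      by_cases hne : g * t * g⁻¹ = t
      · rw [hne]; exact ⟨1, by omega, K.gel_z ht1⟩
      obtain ⟨n, hn, hnk, -, hng⟩ := K.fused_classes ht (cls := Kill.clsU1) (inv := Kill.invU1)
        (by rw [hT, hE]; exact Kill.scanU1) (by rw [hT, hE]; exact Kill.witnessU1)
        (by rw [fin_lengths.2.2]; exact Kill.cascadeU1) hg hne
      rcases hclassA n hn with h | h
      · rw [List.mem_singleton.1 hnk] at h; simp at h
      · exact ⟨n.1, Nat.le_of_ble_eq_true h.2, hng⟩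
    · have hrep : ∀ b ∈ A, b ≠ 1 → b ≠ t → ∃ h ∈ Subgroup.centralizer ({t} : Set G),
          h * K.gel (Kill.clsU1.getD 0 (0, [], [])).1 * h⁻¹ = b := by
        rintro _ ⟨x, hx, rfl⟩ hb1 hbt
        have hx2 : 2 ≤ x := by
          by_contra hlt
          interval_cases x
          · exact hb1 (by rw [Coord.gel, K.el_one]; rfl)
          · exact hbt (K.gel_z ht1)
        obtain ⟨n, hn, hnx, hnk⟩ := hclassB (x - 2) (by omega)
        have hnx' : n.1 = x := by omega
        have hwit : witnessOK K.ty K.X.ε Kill.clsU1 Kill.invU1 = true := by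
          rw [hT, hE]; exact Kill.witnessU1
        simp only [witnessOK, Bool.and_eq_true, List.all_eq_true, Nat.beq_eq] at hwit
        obtain ⟨⟨⟨h1, h2⟩, h3⟩, h4⟩ := hwit.1 n hn
        rw [hnk] at h4
        refine ⟨K.gel n.2.2, (K.el n.2.2).2, ?_⟩
        rw [mul_inv_eq_iff_eq_mul, ← K.gel_mul (Nat.le_of_ble_eq_true h2) ?_,
          ← K.gel_mul (by omega) (Nat.le_of_ble_eq_true h2), ← hnx']
        · exact congrArg K.gel h4
        · exact Nat.le_of_ble_eq_true (hwit.2 _ (by
            rw [List.getD_eq_getElem _ _ (by rw [fin_lengths.2.2]; omega)]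
            exact List.getElem_mem _)).1.1
      intro a ha ha1 hat b hb hb1 hbt
      obtain ⟨u, hu, rfl⟩ := hrep a ha ha1 hat
      obtain ⟨v, hv, rfl⟩ := hrep b hb hb1 hbt
      exact ⟨v * u⁻¹, mul_mem hv (inv_mem hu), by group⟩

/-- In a simple group of the order of the Held group the centraliser is that of a transvection. -/
theorem centralizer_iso [IsSimpleGroup G] (ht : orderOf t = 2)
    (Q : Subgroup (Subgroup.centralizer ({t} : Set G))) [Q.Normal]
    (hQ : Cfsg.IsExtraspecial 2 Q) (hcard : Nat.card Q = 2 ^ 7)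
    (hplus : ∃ E : Subgroup Q, Cfsg.IsElementaryAbelian 2 E ∧ Nat.card E = 2 ^ 4)
    (h2c : Subgroup.centralizer (Q : Set (Subgroup.centralizer ({t} : Set G))) ≤ Q)
    (e : (Subgroup.centralizer ({t} : Set G)) ⧸ Q ≃* SpecialLinearGroup (Fin 3) (ZMod 2))
    (hG : Nat.card G = 4030387200)
    {s : SpecialLinearGroup (Fin 5) (ZMod 2)}
    (hs : (s : Matrix (Fin 5) (Fin 5) (ZMod 2)) = transvection 0 1 1) :
    Nonempty ((Subgroup.centralizer ({t} : Set G)) ≃*
        Subgroup.centralizer ({s} : Set (SpecialLinearGroup (Fin 5) (ZMod 2)))) := by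
  classical
  have ht1 : t ≠ 1 := fun h => by rw [h, orderOf_one] at ht; omega
  have ht2 : t * t = 1 := by rw [← sq, ← ht, pow_orderOf_eq_one]
  have hC : Nat.card (Subgroup.centralizer ({t} : Set G)) = 21504 := by
    rw [Subgroup.card_eq_card_quotient_mul_card_subgroup Q, hcard, Nat.card_congr e.toEquiv,
      Cfsg.Agent.S3035.slThree.2]
    norm_num
  have hiso : (∀ g : G, g * t * g⁻¹ * t = t * (g * t * g⁻¹) → g * t * g⁻¹ = t) → False := by
    intro h
    have hI : Cfsg.IsIsolatedInvolution t := ⟨ht, fun g hg => h g hg.eq.symm⟩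
    have hz := Cfsg.Lib.ZStar.zStarHolds G t hI
    rcases IsSimpleGroup.eq_bot_or_eq_top_of_normal (Cfsg.oddCore G) inferInstance with hb | hb
    · have hall : ∀ g : G, g ∈ Subgroup.centralizer ({t} : Set G) := fun g => by
        rw [Subgroup.mem_centralizer_singleton_iff]
        have := hz g
        rw [hb, Subgroup.mem_bot, mul_inv_eq_one, mul_inv_eq_iff_eq_mul] at this
        exact this.symm
      have htop : Subgroup.centralizer ({t} : Set G) = ⊤ := eq_top_iff.2 fun g _ => hall g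
      rw [htop, Subgroup.card_top, hG] at hC
      omega
    · have hodd := Cfsg.Lib.ZStar.odd_card_oddCore (G := G)
      rw [hb, Subgroup.card_top, hG] at hodd
      exact absurd hodd (by decide)
  rcases shape_cases ht Q hQ hcard hplus h2c e hs with h | h | ⟨A, hA, hA2, htA, hAC, hAn, hfus, htr⟩
  · exact h
  · exact (hiso h).elim
  exfalso
  by_cases hex : ∀ g : G, g * t * g⁻¹ * t = t * (g * t * g⁻¹) → g * t * g⁻¹ = t
  · exact hiso hex
  push Not at hex
  obtain ⟨g₀, hg₀, hne₀⟩ := hex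
  have hcomm : ∀ a ∈ A, ∀ b ∈ A, a * b = b * a := by
    intro a ha b hb
    have h := hA2 _ (mul_mem ha hb)
    calc a * b = a * (a * b * (a * b)) * b := by rw [h, mul_one]
      _ = (a * a) * (b * a) * (b * b) := by group
      _ = b * a := by rw [hA2 a ha, hA2 b hb, one_mul, mul_one]
  have hconj : ∀ a ∈ A, a ≠ 1 → ∃ g : G, g * t * g⁻¹ = a := by
    intro a ha ha1
    by_cases hat : a = t
    · exact ⟨1, by rw [hat]; group⟩
    have h1 : g₀ * t * g₀⁻¹ ≠ 1 := fun h => ht1 (by simpa using h)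
    obtain ⟨c, -, hca⟩ := htr _ (hfus g₀ hg₀) h1 hne₀ a ha ha1 hat
    exact ⟨c * g₀, by rw [← hca]; group⟩
  have hnormA : ∀ g : G, (∀ a ∈ A, g * a * g⁻¹ ∈ A) → g ∈ Subgroup.normalizer (A : Set G) := by
    intro g hg
    rw [Subgroup.mem_normalizer_iff_map_conj_eq]
    refine Subgroup.eq_of_le_of_card_ge ?_ (le_of_eq (Subgroup.card_map_of_injective (MulEquiv.injective _)).symm)
    rintro _ ⟨a, ha, rfl⟩
    exact hg a ha
  have hmove : ∀ g : G, g * t * g⁻¹ ∈ A → g ∈ Subgroup.normalizer (A : Set G) := by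
    intro g hg
    refine inv_mem_iff.1 (hnormA _ fun a ha => ?_)
    by_cases ha1 : a = 1
    · subst ha1; simp
    obtain ⟨h, rfl⟩ := hconj a ha ha1
    have hc := hcomm _ ha _ hg
    rw [show g⁻¹ * (h * t * h⁻¹) * g⁻¹⁻¹ = (g⁻¹ * h) * t * (g⁻¹ * h)⁻¹ by group]
    refine hfus _ ?_
    calc g⁻¹ * h * t * (g⁻¹ * h)⁻¹ * t = g⁻¹ * (h * t * h⁻¹ * (g * t * g⁻¹)) * g := by group
      _ = _ := by rw [hc]; group
  set N := Subgroup.normalizer (A : Set G) with hN
  have hCN : Subgroup.centralizer ({t} : Set G) ≤ N := fun g hg => hnormA g (hAn g hg)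
  let X := {a : G // a ∈ A ∧ a ≠ 1}
  letI : MulAction N X :=
    { smul := fun n a => ⟨(n : G) * a.1 * (n : G)⁻¹, (Subgroup.mem_normalizer_iff.1 n.2 a.1).1 a.2.1,
        fun h => a.2.2 (by simpa using h)⟩
      one_smul := fun a => Subtype.ext (by show ((1 : N) : G) * a.1 * _ = a.1; simp)
      mul_smul := fun m n a => Subtype.ext (by
        show ((m * n : N) : G) * a.1 * _ = (m : G) * ((n : G) * a.1 * (n : G)⁻¹) * (m : G)⁻¹
        simp [mul_assoc]) }
  haveI : MulAction.IsPretransitive N X := by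
    refine MulAction.IsPretransitive.mk fun a b => ?_
    obtain ⟨u, hu⟩ := hconj a.1 a.2.1 a.2.2
    obtain ⟨v, hv⟩ := hconj b.1 b.2.1 b.2.2
    have hu' := hmove u (hu ▸ a.2.1)
    have hv' := hmove v (hv ▸ b.2.1)
    refine ⟨⟨v, hv'⟩ * ⟨u, hu'⟩⁻¹, Subtype.ext ?_⟩
    show v * u⁻¹ * a.1 * (v * u⁻¹)⁻¹ = b.1
    rw [← hu, ← hv]; group
  have hXcard : Nat.card X = 15 := by
    have e1 : X ≃ {a : A // a ≠ (1 : A)} :=
      ⟨fun a => ⟨⟨a.1, a.2.1⟩, fun h => a.2.2 (congrArg Subtype.val h)⟩,
        fun a => ⟨a.1.1, a.1.2, fun h => a.2 (Subtype.ext h)⟩, fun a => rfl, fun a => rfl⟩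
    haveI := Fintype.ofFinite A
    rw [Nat.card_congr e1, Nat.card_eq_fintype_card, Fintype.card_subtype_compl,
      Fintype.card_subtype_eq, ← Nat.card_eq_fintype_card, hA]
  have hNcard : Nat.card N = 15 * 21504 := by
    let x : X := ⟨t, htA, ht1⟩
    have hst : MulAction.stabilizer N x = (Subgroup.centralizer ({t} : Set G)).subgroupOf N := by
      ext n
      rw [MulAction.mem_stabilizer_iff, Subgroup.mem_subgroupOf, Subgroup.mem_centralizer_singleton_iff]
      constructor
      · intro h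
        have h' : (n : G) * t * (n : G)⁻¹ = t := congrArg Subtype.val h
        exact mul_inv_eq_iff_eq_mul.1 h'
      · intro h
        exact Subtype.ext (show (n : G) * t * (n : G)⁻¹ = t by rw [h, mul_inv_cancel_right])
    have h := (MulAction.stabilizer N x).card_mul_index
    rw [MulAction.index_stabilizer_of_transitive, hXcard, hst,
      Nat.card_congr (Subgroup.subgroupOfEquivOfLe hCN).toEquiv, hC] at h
    omega
  have hidx : N.index = 12495 := by
    have h := N.card_mul_index
    rw [hNcard, hG] at h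
    omega
  have hkey : ∀ a ∈ A, a ≠ 1 → ∀ g : G, g⁻¹ * a * g ∈ N → g ∈ N := by
    intro a ha ha1 g hg
    have hfix : ∃ b ∈ A, b ≠ 1 ∧ (g⁻¹ * a * g) * b * (g⁻¹ * a * g)⁻¹ = b := by
      set u := g⁻¹ * a * g with hu
      have hu2 : u * u = 1 := by
        rw [hu, show g⁻¹ * a * g * (g⁻¹ * a * g) = g⁻¹ * (a * a) * g by group, hA2 a ha]; group
      by_contra hno
      push Not at hno
      have hb : ∀ b ∈ A, u * b * u⁻¹ ∈ A := fun b hb => (Subgroup.mem_normalizer_iff.1 hg b).1 hb
      -- the product of an element and its image is fixed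
      have hall : ∀ b ∈ A, u * b * u⁻¹ = b := by
        intro b hbA
        have hprod := hno (b * (u * b * u⁻¹)) (mul_mem hbA (hb b hbA))
        by_contra hne
        refine hprod (fun h1 => hne ?_) ?_
        · calc u * b * u⁻¹ = b⁻¹ * (b * (u * b * u⁻¹)) := by group
            _ = b := by rw [h1, mul_one]; exact inv_eq_of_mul_eq_one_right (hA2 b hbA)
        · calc u * (b * (u * b * u⁻¹)) * u⁻¹ = u * b * u⁻¹ * (u * u * b * (u * u)⁻¹) := by group
            _ = _ := by rw [hu2, inv_one, one_mul, mul_one, hcomm _ (hb b hbA) _ hbA]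
      exact hno t htA ht1 (hall t htA)
    obtain ⟨b, hb, hb1, hab⟩ := hfix
    obtain ⟨v, rfl⟩ := hconj b hb hb1
    obtain ⟨w, rfl⟩ := hconj a ha ha1
    have hab' := mul_inv_eq_iff_eq_mul.1 hab
    have h1 : (v⁻¹ * g⁻¹ * w) * t * (v⁻¹ * g⁻¹ * w)⁻¹ ∈ A := hfus _ (by
      calc v⁻¹ * g⁻¹ * w * t * (v⁻¹ * g⁻¹ * w)⁻¹ * t
          = v⁻¹ * (g⁻¹ * (w * t * w⁻¹) * g * (v * t * v⁻¹)) * v := by group
        _ = _ := by rw [hab']; group)
    have hw := hmove w ha
    have hv := hmove v hb
    have := mul_mem (mul_mem hv (hmove _ h1)) (inv_mem hw)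
    rw [show v * (v⁻¹ * g⁻¹ * w) * w⁻¹ = g⁻¹ by group] at this
    exact inv_mem_iff.1 this
  have hAN : A ≤ N := Subgroup.le_normalizer
  let Y := {y : G ⧸ N // y ≠ ((1 : G) : G ⧸ N)}
  have hfixed : ∀ a ∈ A, (a • ((1 : G) : G ⧸ N)) = ((1 : G) : G ⧸ N) := fun a ha => by
    show ((a * 1 : G) : G ⧸ N) = ((1 : G) : G ⧸ N)
    rw [QuotientGroup.eq, mul_one, mul_one]
    exact inv_mem (hAN ha)
  letI : MulAction A Y :=
    { smul := fun a y => ⟨(a : G) • y.1, fun h => y.2 (by
        have h' := congrArg ((a : G)⁻¹ • ·) h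
        simp only [inv_smul_smul] at h'
        rw [h', hfixed _ (inv_mem a.2)])⟩
      one_smul := fun y => Subtype.ext (one_smul G y.1)
      mul_smul := fun a b y => Subtype.ext (mul_smul (a : G) (b : G) y.1) }
  have horb : ∀ y : Y, MulAction.stabilizer A y = ⊥ := by
    rintro ⟨y, hy⟩
    rw [Subgroup.eq_bot_iff_forall]
    intro a ha
    obtain ⟨g, rfl⟩ := QuotientGroup.mk_surjective y
    rw [MulAction.mem_stabilizer_iff] at ha
    have h' : ((a : G) * g : G) = ((g : G) : G ⧸ N) := congrArg Subtype.val ha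
    rw [QuotientGroup.eq, ← inv_mem_iff] at h'
    by_contra ha1
    refine hy ?_
    rw [QuotientGroup.eq, mul_one, inv_mem_iff]
    refine hkey a a.2 (fun h => ha1 (Subtype.ext h)) g ?_
    simpa [mul_assoc] using h'
  have hdvd : 16 ∣ Nat.card Y := by
    have h := Nat.card_congr (MulAction.selfEquivSigmaOrbits A Y)
    rw [h]
    haveI := Fintype.ofFinite (MulAction.orbitRel.Quotient A Y)
    rw [Nat.card_sigma]
    refine Finset.dvd_sum fun ω _ => ?_
    have ho : ∀ y : Y, Nat.card (MulAction.orbit A y) = 16 := fun y => by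
      rw [show Nat.card (MulAction.orbit A y) = (MulAction.stabilizer A y).index from by
        rw [MulAction.index_stabilizer]; exact Nat.card_coe_set_eq _, horb, Subgroup.index_bot, hA]
    rw [ho]
  have hYcard : Nat.card Y = 12494 := by
    haveI := Fintype.ofFinite (G ⧸ N)
    rw [Nat.card_eq_fintype_card, Fintype.card_subtype_compl, Fintype.card_subtype_eq,
      ← Nat.card_eq_fintype_card, ← Subgroup.index_eq_card, hidx]
  rw [hYcard] at hdvd
  omega

/-- If more than sixteen conjugates of the involution commute with it, the centraliser is that of a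
transvection. -/
theorem centralizer_iso_of_conjugates (ht : orderOf t = 2)
    (Q : Subgroup (Subgroup.centralizer ({t} : Set G))) [Q.Normal]
    (hQ : Cfsg.IsExtraspecial 2 Q) (hcard : Nat.card Q = 2 ^ 7)
    (hplus : ∃ E : Subgroup Q, Cfsg.IsElementaryAbelian 2 E ∧ Nat.card E = 2 ^ 4)
    (h2c : Subgroup.centralizer (Q : Set (Subgroup.centralizer ({t} : Set G))) ≤ Q)
    (e : (Subgroup.centralizer ({t} : Set G)) ⧸ Q ≃* SpecialLinearGroup (Fin 3) (ZMod 2))
    (hmany : 16 < Set.ncard {x : Subgroup.centralizer ({t} : Set G) | IsConj t (x : G)})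
    {s : SpecialLinearGroup (Fin 5) (ZMod 2)}
    (hs : (s : Matrix (Fin 5) (Fin 5) (ZMod 2)) = transvection 0 1 1) :
    Nonempty ((Subgroup.centralizer ({t} : Set G)) ≃*
        Subgroup.centralizer ({s} : Set (SpecialLinearGroup (Fin 5) (ZMod 2)))) := by
  classical
  have key : ∀ A : Set G, A.ncard ≤ 16 →
      (∀ g : G, g * t * g⁻¹ * t = t * (g * t * g⁻¹) → g * t * g⁻¹ ∈ A) → False := by
    intro A hA hfus
    refine absurd hmany (not_lt.2 ?_)
    refine le_trans (Set.ncard_le_ncard_of_injOn (fun x => (x : G)) ?_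
      (fun x _ y _ h => Subtype.ext h) (Set.toFinite A)) hA
    intro x hx
    obtain ⟨g, hg⟩ := isConj_iff.1 hx
    have := hfus g (by rw [hg]; exact Subgroup.mem_centralizer_singleton_iff.1 x.2)
    rwa [hg] at this
  rcases shape_cases ht Q hQ hcard hplus h2c e hs with h | h | ⟨A, hA, -, -, -, -, hfus, -⟩
  · exact h
  · exact (key {t} (by simp) h).elim
  · exact (key A (by rw [← Nat.card_coe_set_eq]; exact hA.le) hfus).elim

end Cfsg.Lib.HeldType.CentShape
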