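import Cfsg.Agent.Lib.HeldType.CentShape.Coord
import Cfsg.Agent.S2880
import Cfsg.Agent.S3035

/-!
# Every extension of `2^{1+6}` of plus type by `L₃(2)` has a normal form
-/

set_option autoImplicit false
set_option linter.unusedSectionVars false

namespace Cfsg.Lib.HeldType.CentShape

open Frame (extQ)
open scoped commutatorElement

/-- The action of a word in the model generators on codes. -/
def actWord (ty : ℕ) : List ℕ → ℕ → ℕ
  | [], x => x
  | g :: w, x => extQ (imgL ty g) (actWord ty w x)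

/-- The word whose square is conjugate to the involution. -/
def commWord : List ℕ := [0, 1, 0, 1, 1, 1, 1, 1, 1]

/-- The conjugating word. -/
def conjWord : List ℕ := [1, 1, 1, 0, 1, 1, 1, 1]

theorem act_relations : ∀ ty < 2, ∀ i < 6,
    actWord ty [0, 0] (genQ i) = genQ i ∧
    actWord ty [1, 1, 1, 1, 1, 1, 1] (genQ i) = genQ i ∧
    actWord ty [0, 1, 0, 1, 0, 1] (genQ i) = genQ i ∧
    actWord ty (commWord ++ (commWord ++ conjWord)) (genQ i) = actWord ty (conjWord ++ [0]) (genQ i) ∧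
    extQ (imgL ty 0) (genQ i) = imgA ty i ∧ extQ (imgL ty 1) (genQ i) = imgC i := by
  decide +kernel

theorem extQ_bound : ∀ ty < 2, ∀ g < 2, ∀ x < 128, extQ (imgL ty g) x < 128 := by decide +kernel

theorem actWord_lt {ty : ℕ} (hty : ty < 2) : ∀ (w : List ℕ), (∀ g ∈ w, g < 2) → ∀ x < 128,
    actWord ty w x < 128
  | [], _, x, hx => hx
  | g :: w, hw, x, hx => extQ_bound ty hty g (hw g List.mem_cons_self) _
      (actWord_lt hty w (fun y hy => hw y (List.mem_cons_of_mem _ hy)) x hx)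

namespace Shape

variable {P : Type*} [Group P] [Finite P] (S : Shape P)

/-- The value of a word in two elements. -/
def wval (a c : P) (w : List ℕ) : P := (w.map fun g => if g = 0 then a else c).prod

theorem conj_word {ty : ℕ} (hty : ty < 2) {a c : P}
    (hA : ∀ i < 6, a * S.F.e i * a⁻¹ = S.F.ι (imgA ty i))
    (hC : ∀ i < 6, c * S.F.e i * c⁻¹ = S.F.ι (imgC i)) :
    ∀ (w : List ℕ), (∀ g ∈ w, g < 2) → ∀ x < 128,
      wval a c w * S.F.ι x * (wval a c w)⁻¹ = S.F.ι (actWord ty w x) := by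
  intro w
  induction w with
  | nil => intro _ x _; simp [wval, actWord]
  | cons g w ih =>
    intro hw x hx
    obtain ⟨hg, hw⟩ := List.forall_mem_cons.1 hw
    have hd : ∀ i < 6, imgL ty g i < 128 := fun i hi => by
      interval_cases g
      exacts [(imgA_half ty hty i hi).1, (imgC_half i hi).1]
    have hlt := actWord_lt hty w hw x hx
    have h1 := (S.F.extQ_eq S.F _ hd
      (φ := (MulAut.conj (if g = 0 then a else c)).toMonoidHom) ?_ ?_ hlt).1
    · rw [actWord, ← h1, ← ih hw x hx]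
      show _ = (if g = 0 then a else c) * _ * (if g = 0 then a else c)⁻¹
      simp only [wval, List.map_cons, List.prod_cons]
      group
    · show _ * S.F.z * _⁻¹ = _
      rw [S.z_central, mul_inv_cancel_right]
    · intro i hi
      interval_cases g
      exacts [hA i hi, hC i hi]

theorem word_eq {ty : ℕ} (hty : ty < 2) {a c : P}
    (hA : ∀ i < 6, a * S.F.e i * a⁻¹ = S.F.ι (imgA ty i))
    (hC : ∀ i < 6, c * S.F.e i * c⁻¹ = S.F.ι (imgC i)) {u v : List ℕ}
    (hu : ∀ g ∈ u, g < 2) (hv : ∀ g ∈ v, g < 2)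
    (h : ∀ i < 6, actWord ty u (genQ i) = actWord ty v (genQ i)) :
    ∃ n < 2, wval a c u = S.F.z ^ n * wval a c v := by
  have hk : ∀ i < 6, wval a c u * (wval a c v)⁻¹ * S.F.e i = S.F.e i * (wval a c u * (wval a c v)⁻¹) := by
    intro i hi
    have h2 : ∀ j < 6, wval a c u * S.F.e j * (wval a c u)⁻¹ = wval a c v * S.F.e j * (wval a c v)⁻¹ :=
      fun j hj => by
        rw [S.e_eq hj, S.conj_word hty hA hC u hu _ (Frame.genQ_facts j (by omega)),
          S.conj_word hty hA hC v hv _ (Frame.genQ_facts j (by omega)), h j hj]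
    have hall : ∀ q ∈ S.Q, wval a c u * q * (wval a c u)⁻¹ = wval a c v * q * (wval a c v)⁻¹ := by
      intro q hq
      obtain ⟨x, hx, rfl⟩ := S.F.exists_code S.z_mem S.e_mem S.card hq
      have e : ∀ g : P, g * S.F.ι x * g⁻¹ = (MulAut.conj g) (S.F.ι x) := fun g => rfl
      rw [e, e]
      have hmem := S.F.mem_of_gen (H := (MonoidHom.eqLocus (MulAut.conj (wval a c u)).toMonoidHom
        (MulAut.conj (wval a c v)).toMonoidHom)) ?_ ?_ x
      · exact hmem
      · show wval a c u * S.F.z * (wval a c u)⁻¹ = wval a c v * S.F.z * (wval a c v)⁻¹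
        rw [S.z_central, S.z_central, mul_inv_cancel_right, mul_inv_cancel_right]
      · exact fun j hj => h2 j hj
    have h3 := hall ((wval a c v)⁻¹ * S.F.e i * (wval a c v)⁻¹⁻¹) (S.conj_mem _ (S.e_mem i hi))
    simp only [inv_inv] at h3
    calc wval a c u * (wval a c v)⁻¹ * S.F.e i
        = wval a c u * ((wval a c v)⁻¹ * S.F.e i * wval a c v) * (wval a c u)⁻¹ *
          (wval a c u * (wval a c v)⁻¹) := by group
      _ = _ := by rw [h3]; group
  rcases S.mem_cent hk (S.z_central _) with h0 | h0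
  · exact ⟨0, by omega, by rw [pow_zero, one_mul]; exact mul_inv_eq_one.1 h0⟩
  · exact ⟨1, by omega, by rw [pow_one]; exact mul_inv_eq_iff_eq_mul.1 h0⟩

theorem z_pow_add_self (n : ℕ) : S.F.z ^ n * S.F.z ^ n = 1 := by
  rw [← pow_add, ← two_mul, pow_mul, sq, S.F.z_sq, one_pow]

theorem exists_gens {ty : ℕ} (hty : ty < 2) {a c : P}
    (hA : ∀ i < 6, a * S.F.e i * a⁻¹ = S.F.ι (imgA ty i))
    (hC : ∀ i < 6, c * S.F.e i * c⁻¹ = S.F.ι (imgC i)) :
    ∃ X : Gens P, X.z = S.F.z ∧ (∃ n, X.a = S.F.z ^ n * a) ∧ ∃ n, X.c = S.F.z ^ n * c := by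
  have hz : ∀ g : P, Commute S.F.z g := fun g => (S.z_central g).symm
  obtain ⟨d, -, hd⟩ := S.word_eq hty hA hC (u := [1, 1, 1, 1, 1, 1, 1]) (v := []) (by decide) (by simp)
    fun i hi => (act_relations ty hty i hi).2.1
  obtain ⟨e, -, he⟩ := S.word_eq hty hA hC (u := [0, 1, 0, 1, 0, 1]) (v := []) (by decide) (by simp)
    fun i hi => (act_relations ty hty i hi).2.2.1
  obtain ⟨ε, hε, ha⟩ := S.word_eq hty hA hC (u := [0, 0]) (v := []) (by decide) (by simp)
    fun i hi => (act_relations ty hty i hi).1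
  obtain ⟨f, -, hf⟩ := S.word_eq hty hA hC (u := commWord ++ (commWord ++ conjWord))
    (v := conjWord ++ [0]) (by decide) (by decide)
    fun i hi => (act_relations ty hty i hi).2.2.2.1
  simp only [wval, List.map_cons, List.map_nil, List.prod_cons, List.prod_nil, if_pos,
    show ¬ (1 = 0) from one_ne_zero, if_false, mul_one] at hd he ha
  have hd' : c ^ 7 = S.F.z ^ d := by simpa [pow_succ, mul_assoc] using hd
  have he' : a * c * (a * c) * (a * c) = S.F.z ^ e := by simpa [mul_assoc] using he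
  set w := wval a c commWord with hw
  set u := wval a c conjWord with hu
  have hww : w * w = S.F.z ^ f * (u * a * u⁻¹) := by
    have happ : ∀ x y, wval a c (x ++ y) = wval a c x * wval a c y := fun x y => by simp [wval]
    rw [happ, happ, happ, show wval a c [0] = a by simp [wval]] at hf
    rw [show w * w = w * (w * u) * u⁻¹ by group, hw, hu, hf]
    group
  have h4 : w * w * (w * w) = S.F.z ^ ε := by
    rw [hww]
    calc S.F.z ^ f * (u * a * u⁻¹) * (S.F.z ^ f * (u * a * u⁻¹))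
        = S.F.z ^ f * S.F.z ^ f * (u * (a * a) * u⁻¹) := by
          rw [mul_assoc (S.F.z ^ f), ← mul_assoc (u * a * u⁻¹), ← ((hz (u * a * u⁻¹)).pow_left f).eq]
          group
      _ = _ := by
          rw [S.z_pow_add_self, one_mul, show a * a = S.F.z ^ ε from ha,
            ← ((hz u).pow_left ε).eq, mul_inv_cancel_right]
  have sw : ∀ (k l : ℕ) (x y : P), S.F.z ^ k * x * (S.F.z ^ l * y) = S.F.z ^ (k + l) * (x * y) := by
    intro k l x y
    rw [pow_add, mul_assoc (S.F.z ^ k), ← mul_assoc x, ← ((hz x).pow_left l).eq]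
    simp only [mul_assoc]
  have zz : ∀ k l : ℕ, k = 2 * l → S.F.z ^ k = 1 := fun k l h => by
    rw [h, pow_mul, sq, S.F.z_sq, one_pow]
  refine ⟨⟨S.F.z ^ (d + e) * a, S.F.z ^ d * c, S.F.z, ε, hε, S.F.z_sq, hz, ?_, ?_, ?_, ?_⟩, rfl,
    ⟨_, rfl⟩, ⟨_, rfl⟩⟩
  · rw [sw, zz _ (d + e) (by ring), one_mul]
    exact ha
  · rw [((hz c).pow_left d).mul_pow, hd', ← pow_mul, ← pow_add, zz _ (4 * d) (by ring)]
  · rw [sw, sw, sw, he', ← pow_add, zz _ (3 * d + 2 * e) (by ring)]
  · have e2 : S.F.z ^ (d + e) * a * (S.F.z ^ d * c) * (S.F.z ^ (d + e) * a) * (S.F.z ^ d * c) ^ 6 =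
        S.F.z ^ d * w := by
      have hw' : w = a * c * a * c ^ 6 := by simp [hw, wval, commWord, pow_succ, mul_assoc]
      rw [((hz c).pow_left d).mul_pow, ← pow_mul, sw, sw, sw, ← hw']
      congr 1
      rw [show d + e + d + (d + e) + d * 6 = d + 2 * (e + 4 * d) by ring, pow_add,
        zz (2 * (e + 4 * d)) _ rfl, mul_one]
    rw [e2, sw, sw, sw, zz _ (2 * d) (by ring), one_mul, mul_assoc (w * w), h4]

end Shape

theorem frame_of_list {R : Type*} [Group R] {z : R} {L : List (R × R)}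
    (hz : Cfsg.Lib.Extraspecial.Setting 2 z) (hL : Cfsg.Lib.Extraspecial.SympList z ⊤ L)
    (hlen : L.length = 3) (hD : ∀ t ∈ L, Cfsg.Lib.Extraspecial.IsD t) : Nonempty (Frame R) := by
  haveI : Fact (Nat.Prime 2) := ⟨Nat.prime_two⟩
  obtain ⟨t1, t2, t3, rfl⟩ : ∃ t1 t2 t3, L = [t1, t2, t3] := by
    match L, hlen with
    | [t1, t2, t3], _ => exact ⟨_, _, _, rfl⟩
  generalize (⊤ : Subgroup R) = T at hL
  cases hL with | @cons _ x1 y1 _ hx1 hy1 h1 hL => ?_
  generalize hT2 : Cfsg.Lib.Extraspecial.perp T x1 y1 = T2 at hL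
  cases hL with | @cons _ x2 y2 _ hx2 hy2 h2 hL => ?_
  generalize hT3 : Cfsg.Lib.Extraspecial.perp T2 x2 y2 = T3 at hL
  cases hL with | @cons _ x3 y3 _ hx3 hy3 h3 hL => ?_
  subst hT3 hT2
  simp only [List.forall_mem_cons, Cfsg.Lib.Extraspecial.IsD, sq] at hD
  obtain ⟨⟨a1, b1⟩, ⟨a2, b2⟩, ⟨a3, b3⟩, -⟩ := hD
  have p2x := Cfsg.Lib.Extraspecial.mem_perp.mp hx2
  have p2y := Cfsg.Lib.Extraspecial.mem_perp.mp hy2
  have q3x := Cfsg.Lib.Extraspecial.mem_perp.mp hx3
  have q3y := Cfsg.Lib.Extraspecial.mem_perp.mp hy3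
  have r3x := Cfsg.Lib.Extraspecial.mem_perp.mp q3x.1
  have r3y := Cfsg.Lib.Extraspecial.mem_perp.mp q3y.1
  have hsw : ∀ x y : R, ⁅x, y⁆ = z → x * y = z ^ 1 * (y * x) ∧ y * x = z ^ 1 * (x * y) := by
    intro x y h
    have hxy : x * y = z * (y * x) := by
      rw [← h, commutatorElement_def]
      group
    refine ⟨by rw [pow_one]; exact hxy, ?_⟩
    rw [pow_one, hxy, ← mul_assoc, hz.sq_z, one_mul]
  have hc' : ∀ x y : R, Commute x y → x * y = z ^ 0 * (y * x) ∧ y * x = z ^ 0 * (x * y) :=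
    fun x y h => ⟨by simpa using h.eq, by simpa using h.eq.symm⟩
  obtain ⟨u14, u41⟩ := hsw x1 y1 h1
  obtain ⟨u25, u52⟩ := hsw x2 y2 h2
  obtain ⟨u36, u63⟩ := hsw x3 y3 h3
  obtain ⟨u21, u12⟩ := hc' x2 x1 p2x.2.1
  obtain ⟨u24, u42⟩ := hc' x2 y1 p2x.2.2
  obtain ⟨u51, u15⟩ := hc' y2 x1 p2y.2.1
  obtain ⟨u54, u45⟩ := hc' y2 y1 p2y.2.2
  obtain ⟨u31, u13⟩ := hc' x3 x1 r3x.2.1
  obtain ⟨u34, u43⟩ := hc' x3 y1 r3x.2.2
  obtain ⟨u32, u23⟩ := hc' x3 x2 q3x.2.1
  obtain ⟨u35, u53⟩ := hc' x3 y2 q3x.2.2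
  obtain ⟨u61, u16⟩ := hc' y3 x1 r3y.2.1
  obtain ⟨u64, u46⟩ := hc' y3 y1 r3y.2.2
  obtain ⟨u62, u26⟩ := hc' y3 x2 q3y.2.1
  obtain ⟨u65, u56⟩ := hc' y3 y2 q3y.2.2
  let e : ℕ → R := fun i => [x1, x2, x3, y1, y2, y3].getD i 1
  have hcz : ∀ g : R, Commute z g := fun g =>
    (hz.commute_z g (Subgroup.mem_zpowers z)).symm
  refine ⟨⟨z, e, hz.ne_one, hz.sq_z, fun i _ => hcz _, fun i hi => ?_, fun i hi j hj => ?_⟩⟩
  · interval_cases i
    exacts [a1, a2, a3, b1, b2, b3]
  · interval_cases i <;> interval_cases j <;> first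
      | (show _ * _ = z ^ 0 * _; simp only [pow_zero, one_mul]; done)
      | assumption

theorem exists_frame {R : Type*} [Group R] [Finite R] (hQ : Cfsg.IsExtraspecial 2 R)
    (hcard : Nat.card R = 2 ^ 7)
    (hplus : ∃ E : Subgroup R, Cfsg.IsElementaryAbelian 2 E ∧ Nat.card E = 2 ^ 4) :
    Nonempty (Frame R) := by
  haveI : Fact (Nat.Prime 2) := ⟨Nat.prime_two⟩
  obtain ⟨z, L, hz, hL, -, hc, hcase⟩ := Cfsg.Lib.Extraspecial.two_kinds hQ
  have hlen : L.length = 3 := by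
    rw [hcard] at hc
    have := Nat.pow_right_injective le_rfl hc
    omega
  rcases hcase with ⟨hD, -⟩ | ⟨-, hinv⟩
  · exact frame_of_list hz hL hlen hD
  · exfalso
    have h4 := Cfsg.Agent.S2880.result 3 (by omega) hQ hcard (by simpa using hplus)
    have h1 : Nat.card {x : R // x ^ 2 = 1} + Nat.card {x : R // orderOf x = 4} = Nat.card R := by
      classical
      haveI := Fintype.ofFinite R
      have hiff : ∀ x : R, orderOf x = 4 ↔ ¬ x ^ 2 = 1 := by
        intro x
        refine ⟨fun h hx => ?_, fun hx => ?_⟩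
        · have := orderOf_le_of_pow_eq_one (by omega) hx; omega
        · have h4 : x ^ 2 ^ 2 = 1 := by
            rcases hz.pow_two_cases x with h | h
            · exact absurd h hx
            · rw [show (2 : ℕ) ^ 2 = 2 * 2 from rfl, pow_mul, h, sq, hz.sq_z]
          exact orderOf_eq_prime_pow (p := 2) (n := 1) (by simpa using hx) h4
      rw [← Nat.card_congr (Equiv.subtypeEquivRight fun x => (hiff x).symm)]
      rw [← Nat.card_sum]
      exact Nat.card_congr (Equiv.sumCompl _)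
    rw [hlen] at hinv
    norm_num at h4 hinv hcard
    omega

/-- An involution and an element of order seven generating `SL(3, 2)`. -/
theorem exists_pair : ∃ A C : Matrix.SpecialLinearGroup (Fin 3) (ZMod 2),
    A * A = 1 ∧ C ^ 7 = 1 ∧ C ≠ 1 ∧ A * C * (A * C) * (A * C) = 1 ∧
    A * C * A * C ^ 6 * (A * C * A * C ^ 6) * (A * C * A * C ^ 6) * (A * C * A * C ^ 6) = 1 ∧
    Subgroup.closure {A, C} = ⊤ := by
  obtain ⟨hsimple, hcard⟩ := Cfsg.Agent.S3035.slThree
  set A : Matrix.SpecialLinearGroup (Fin 3) (ZMod 2) := ⟨!![1, 0, 1; 0, 1, 0; 0, 0, 1], by decide⟩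
  set C : Matrix.SpecialLinearGroup (Fin 3) (ZMod 2) := ⟨!![0, 0, 1; 1, 0, 1; 0, 1, 0], by decide⟩
  have hA : A * A = 1 := by decide +kernel
  have hA1 : A ≠ 1 := fun h => absurd (congrArg Subtype.val h) (by decide +kernel)
  have hC : C ^ 7 = 1 := by decide +kernel
  have hC1 : C ≠ 1 := fun h => absurd (congrArg Subtype.val h) (by decide +kernel)
  have hAC : A * C * (A * C) * (A * C) = 1 := by decide +kernel
  have hAC1 : A * C ≠ 1 := fun h => absurd (congrArg Subtype.val h) (by decide +kernel)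
  refine ⟨A, C, hA, hC, hC1, hAC, by decide +kernel, ?_⟩
  set H := Subgroup.closure ({A, C} : Set (Matrix.SpecialLinearGroup (Fin 3) (ZMod 2))) with hH
  haveI := hsimple
  have mA : A ∈ H := Subgroup.subset_closure (Or.inl rfl)
  have mC : C ∈ H := Subgroup.subset_closure (Or.inr rfl)
  have hdvd : ∀ g ∈ H, ∀ p : ℕ, p.Prime → g ^ p = 1 → g ≠ 1 → p ∣ Nat.card H := by
    intro g hg p hp h1 h2
    haveI : Fact p.Prime := ⟨hp⟩
    rw [← orderOf_eq_prime h1 h2, ← Subgroup.orderOf_mk g hg]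
    exact orderOf_dvd_natCard _
  have h2 := hdvd A mA 2 Nat.prime_two (by rw [sq]; exact hA) hA1
  have h7 := hdvd C mC 7 (by norm_num) hC hC1
  have h3 := hdvd (A * C) (mul_mem mA mC) 3 Nat.prime_three
    (by rw [pow_three', hAC]) hAC1
  have h42 : 42 ∣ Nat.card H := by
    have := Nat.Coprime.mul_dvd_of_dvd_of_dvd (by norm_num : Nat.Coprime 2 3) h2 h3
    exact Nat.Coprime.mul_dvd_of_dvd_of_dvd (by norm_num : Nat.Coprime 6 7) this h7
  have hidx := H.card_mul_index
  rw [hcard] at hidx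
  by_contra hne
  have hi1 : H.index ≠ 1 := fun h => hne (Subgroup.index_eq_one.1 h)
  have hi4 : H.index ∣ 4 := by
    obtain ⟨k, hk⟩ := h42
    rw [hk] at hidx
    exact ⟨k, by rw [mul_comm]; linarith⟩
  have hle : H.index ≤ 4 := Nat.le_of_dvd (by norm_num) hi4
  rcases hsimple.eq_bot_or_eq_top_of_normal H.normalCore inferInstance with hc | hc
  · have hf : (Nat.card (Matrix.SpecialLinearGroup (Fin 3) (ZMod 2))) ∣ H.index.factorial := by
      rw [Subgroup.index_eq_card H, ← Nat.card_perm]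
      refine Subgroup.card_dvd_of_injective (MulAction.toPermHom _ (_ ⧸ H)) ?_
      rw [← MonoidHom.ker_eq_bot_iff, ← Subgroup.normalCore_eq_ker, hc]
    rw [hcard] at hf
    have := Nat.le_of_dvd (Nat.factorial_pos _) hf
    have := Nat.factorial_le hle
    norm_num at this
    omega
  · exact hne (top_le_iff.1 (hc ▸ Subgroup.normalCore_le H))

/-- Every such extension has a normal form. -/
theorem exists_coord {P : Type*} [Group P] [Finite P] (Q : Subgroup P) [Q.Normal]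
    (hQ : Cfsg.IsExtraspecial 2 Q) (hcard : Nat.card Q = 2 ^ 7)
    (hplus : ∃ E : Subgroup Q, Cfsg.IsElementaryAbelian 2 E ∧ Nat.card E = 2 ^ 4)
    (hcent : Subgroup.centralizer (Q : Set P) ≤ Q)
    (e : P ⧸ Q ≃* Matrix.SpecialLinearGroup (Fin 3) (ZMod 2)) :
    ∃ K : Coord P, K.S.Q = Q := by
  obtain ⟨F₀⟩ := exists_frame hQ hcard hplus
  let F : Frame P :=
    { z := F₀.z
      e := fun i => F₀.e i
      z_ne := fun h => F₀.z_ne (Subtype.ext h)
      z_sq := congrArg Subtype.val F₀.z_sq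
      comm_z := fun i hi => congrArg Subtype.val (F₀.comm_z i hi)
      e_sq := fun i hi => congrArg Subtype.val (F₀.e_sq i hi)
      e_comm := fun i hi j hj => by
        simpa using congrArg Subtype.val (F₀.e_comm i hi j hj) }
  let S : Shape P := ⟨Q, inferInstance, by rw [hcard]; norm_num, hcent, F, F₀.z.2, fun i _ => (F₀.e i).2⟩
  obtain ⟨A, C, hA, hC, hC1, hAC, hcomm, hgen⟩ := exists_pair
  obtain ⟨a, ha⟩ := QuotientGroup.mk_surjective (e.symm A)
  obtain ⟨c, hc⟩ := QuotientGroup.mk_surjective (e.symm C)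
  let π : P →* Matrix.SpecialLinearGroup (Fin 3) (ZMod 2) := e.toMonoidHom.comp (QuotientGroup.mk' Q)
  have hπa : π a = A := by simp [π, ha]
  have hπc : π c = C := by simp [π, hc]
  have hmem : ∀ g, π g = 1 ↔ g ∈ Q := fun g => by simp [π]
  obtain ⟨S', c', hQ', -, hgen', hMc, hMa⟩ := S.exists_std (a := a) (c := c)
    ((hmem _).1 (by rw [map_pow, hπc, hC]))
    (fun h => hC1 (hπc ▸ (hmem c).2 h))
    ((hmem _).1 (by rw [map_mul, hπa, hA]))
    ((hmem _).1 (by rw [map_mul, map_mul, map_mul, hπa, hπc, hAC]))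
    ((hmem _).1 (by simp only [map_mul, map_pow, hπa, hπc, hcomm]))
    (by
      rw [eq_top_iff]
      intro g _
      have hg : π g ∈ Subgroup.map π (Subgroup.closure ((Q : Set P) ∪ {a, c})) := by
        have hle : Subgroup.closure {A, C} ≤ Subgroup.map π (Subgroup.closure ((Q : Set P) ∪ {a, c})) := by
          rw [Subgroup.closure_le]
          rintro x (rfl | rfl)
          · exact ⟨a, Subgroup.subset_closure (Or.inr (Or.inl rfl)), hπa⟩
          · exact ⟨c, Subgroup.subset_closure (Or.inr (Or.inr rfl)), hπc⟩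
        exact hle (hgen ▸ Subgroup.mem_top _)
      obtain ⟨h, hh, he⟩ := hg
      have hq : h⁻¹ * g ∈ Q := (hmem _).1 (by rw [map_mul, map_inv, he, inv_mul_cancel])
      have := mul_mem hh (Subgroup.subset_closure (show h⁻¹ * g ∈ (Q : Set P) ∪ {a, c} from Or.inl hq))
      simpa using this)
  obtain ⟨ty, hty, hTy⟩ : ∃ ty < 2, S'.vM a = (bif Nat.beq ty 0 then mS else mU) := by
    rcases hMa with h | h
    exacts [⟨0, by omega, h⟩, ⟨1, by omega, h⟩]
  obtain ⟨qa, hqa, hA'⟩ := S'.exists_adjust a (T := imgA ty) (fun i hi => (imgA_half ty hty i hi).1)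
    fun i hi => by rw [(imgA_half ty hty i hi).2, ← hTy, S'.vM_getD a hi]
  obtain ⟨qc, hqc, hC'⟩ := S'.exists_adjust c' (T := imgC) (fun i hi => (imgC_half i hi).1)
    fun i hi => by rw [(imgC_half i hi).2, ← hMc, S'.vM_getD c' hi]
  obtain ⟨X, hXz, ⟨n, hn⟩, m, hm⟩ := S'.exists_gens hty hA' hC'
  have hconj : ∀ (k : ℕ) (g x : P), S'.F.z ^ k * g * x * (S'.F.z ^ k * g)⁻¹ = g * x * g⁻¹ := by
    intro k g x
    have : Commute (S'.F.z ^ k) (g * x * g⁻¹) :=
      Commute.pow_left (show Commute S'.F.z (g * x * g⁻¹) from (S'.z_central _).symm) k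
    calc S'.F.z ^ k * g * x * (S'.F.z ^ k * g)⁻¹ = S'.F.z ^ k * (g * x * g⁻¹) * (S'.F.z ^ k)⁻¹ := by group
      _ = _ := by rw [this.eq, mul_inv_cancel_right]
  refine ⟨⟨S', X, ty, hty, hXz, fun i hi => ?_, fun i hi => ?_, ?_, ?_⟩, hQ'⟩
  · rw [hn, hconj]; exact hA' i hi
  · rw [hm, hconj]; exact hC' i hi
  · rw [eq_top_iff, ← hgen', Subgroup.closure_le]
    have hQm : ∀ q ∈ S'.Q, q ∈ Subgroup.closure ((S'.Q : Set P) ∪ {X.a, X.c}) := fun q hq =>
      Subgroup.subset_closure (Or.inl hq)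
    have hzm := pow_mem (hQm _ S'.z_mem)
    have haX : X.a ∈ Subgroup.closure ((S'.Q : Set P) ∪ {X.a, X.c}) :=
      Subgroup.subset_closure (Or.inr (Or.inl rfl))
    have hcX : X.c ∈ Subgroup.closure ((S'.Q : Set P) ∪ {X.a, X.c}) :=
      Subgroup.subset_closure (Or.inr (Or.inr rfl))
    rintro x (hx | rfl | rfl)
    · exact hQm x hx
    · have := mul_mem (mul_mem (inv_mem (hzm n)) haX) (inv_mem (hQm _ hqa))
      simpa [hn] using this
    · have := mul_mem (mul_mem (inv_mem (hzm m)) hcX) (inv_mem (hQm _ hqc))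
      simpa [hm] using this
  · rw [Subgroup.card_eq_card_quotient_mul_card_subgroup Q, hcard, Nat.card_congr e.toEquiv,
      Cfsg.Agent.S3035.slThree.2]
    norm_num

end Cfsg.Lib.HeldType.CentShape
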