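import Cfsg.Agent.Lib.HeldType.CentShape.Normal

/-!
# The extraspecial kernel of an extension by `L₃(2)` has plus type

A group of minus type `2^{1+6}` has 56 elements with square one, and an element of order seven cannot
act on it without centralising it.
-/

set_option autoImplicit false
set_option linter.unusedSectionVars false

namespace Cfsg.Lib.HeldType.CentShape

open scoped commutatorElement

/-- Sixteen elements, two of them of order four, in a group with squares and commutators in `{1, z}`:
there is no such subgroup. -/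
theorem no_two_of_sixteen {R : Type*} [Group R] [Finite R] {z : R}
    (hz : Cfsg.Lib.Extraspecial.Setting 2 z) (hcard : Nat.card R = 16)
    (hn : Nat.card {x : R // x ^ 2 = 1} = 14) : False := by
  classical
  haveI : Fact (Nat.Prime 2) := ⟨Nat.prime_two⟩
  haveI := Fintype.ofFinite R
  have hcz : ∀ g : R, Commute z g := fun g => (hz.commute_z g (Subgroup.mem_zpowers z)).symm
  have hbad : (Finset.univ.filter fun x : R => ¬ x ^ 2 = 1).card = 2 := by
    have h := Finset.card_filter_add_card_filter_not (s := (Finset.univ : Finset R)) (fun x => x ^ 2 = 1)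
    rw [Finset.card_univ, ← Nat.card_eq_fintype_card, hcard] at h
    rw [Nat.card_eq_fintype_card, Fintype.card_subtype] at hn
    omega
  obtain ⟨w, hw⟩ : ∃ w : R, ¬ w ^ 2 = 1 := by
    obtain ⟨w, hw⟩ := Finset.card_pos.1 (hbad ▸ (by omega : 0 < 2))
    exact ⟨w, (Finset.mem_filter.1 hw).2⟩
  have hw2 : w ^ 2 = z := (hz.pow_two_cases w).resolve_left hw
  have hwz : ¬ (w * z) ^ 2 = 1 := by
    rw [(hcz w).symm.mul_pow, hz.pow_z, mul_one, hw2]
    exact hz.ne_one
  have hne : w ≠ w * z := fun h => hz.ne_one (by simpa using h.symm)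
  have honly : ∀ x : R, ¬ x ^ 2 = 1 → x = w ∨ x = w * z := by
    intro x hx
    by_contra hno
    push Not at hno
    have hsub : ({x, w, w * z} : Finset R) ⊆ Finset.univ.filter fun y : R => ¬ y ^ 2 = 1 := by
      intro y hy
      simp only [Finset.mem_insert, Finset.mem_singleton] at hy
      rcases hy with rfl | rfl | rfl <;> simp [hx, hw, hwz]
    have h3 : ({x, w, w * z} : Finset R).card = 3 :=
      Finset.card_eq_three.2 ⟨x, w, w * z, hno.1, hno.2, hne, rfl⟩
    have := Finset.card_le_card hsub
    omega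
  have hcommute : ∀ y : R, y * w = w * y → y = 1 ∨ y = z ∨ y = w ∨ y = w * z := by
    intro y hy
    by_cases hy2 : y ^ 2 = 1
    · have hwy : ¬ (w * y) ^ 2 = 1 := by
        rw [(Commute.symm hy).mul_pow, hy2, mul_one, hw2]
        exact hz.ne_one
      rcases honly _ hwy with h | h
      · exact Or.inl (by simpa using h)
      · exact Or.inr (Or.inl (mul_left_cancel h))
    · exact Or.inr (Or.inr (honly y hy2))
  have hanti : ∀ y : R, ¬ y * w = w * y → y * w = z * (w * y) := by
    intro y hy
    obtain ⟨k, hk⟩ := Subgroup.mem_zpowers_iff.1 (hz.comm y w)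
    rcases Int.even_or_odd k with ⟨j, rfl⟩ | ⟨j, rfl⟩
    · rw [← two_mul, zpow_mul, zpow_two, hz.sq_z, one_zpow] at hk
      exact absurd (commutatorElement_eq_one_iff_mul_comm.1 hk.symm) hy
    · rw [zpow_add, zpow_mul, zpow_two, hz.sq_z, one_zpow, one_mul, zpow_one] at hk
      rw [hk, commutatorElement_def]
      group
  have hfour : ({1, z, w, w * z} : Finset R).card ≤ 4 := Finset.card_le_four
  obtain ⟨y, hy⟩ : ∃ y : R, y ∉ ({1, z, w, w * z} : Finset R) := by
    by_contra h
    push Not at h
    have := Finset.card_le_card (fun x _ => h x : (Finset.univ : Finset R) ⊆ _)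
    rw [Finset.card_univ, ← Nat.card_eq_fintype_card, hcard] at this
    omega
  obtain ⟨y', hy'⟩ : ∃ y' : R, y' ∉ ({1, z, w, w * z} : Finset R) ∪
      ({1, z, w, w * z} : Finset R).image (y⁻¹ * ·) := by
    by_contra h
    push Not at h
    have h1 := Finset.card_le_card (fun x _ => h x : (Finset.univ : Finset R) ⊆ _)
    have h2 := (Finset.card_union_le ({1, z, w, w * z} : Finset R)
      (({1, z, w, w * z} : Finset R).image (y⁻¹ * ·))).trans
      (Nat.add_le_add hfour (Finset.card_image_le.trans hfour))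
    rw [Finset.card_univ, ← Nat.card_eq_fintype_card, hcard] at h1
    omega
  simp only [Finset.mem_union, not_or, Finset.mem_image, not_exists, not_and] at hy'
  obtain ⟨hy'1, hy'2⟩ := hy'
  have a1 := hanti y fun h => hy (by simpa using hcommute y h)
  have a2 := hanti y' fun h => hy'1 (by simpa using hcommute y' h)
  have hyy : y * y' * w = w * (y * y') := by
    rw [mul_assoc, a2, ← mul_assoc, ← (hcz y).eq, mul_assoc z y, ← mul_assoc y, a1]
    simp only [← mul_assoc]
    rw [hz.sq_z, one_mul]
  exact hy'2 (y * y') (by simpa using hcommute _ hyy) (by group)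

variable {P : Type*} [Group P] [Finite P]

/-- The kernel has an elementary abelian subgroup of order sixteen. -/
theorem exists_elementary (Q : Subgroup P) [Q.Normal] (hQ : Cfsg.IsExtraspecial 2 Q)
    (hcard : Nat.card Q = 2 ^ 7) (hcent : Subgroup.centralizer (Q : Set P) ≤ Q)
    (e : P ⧸ Q ≃* Matrix.SpecialLinearGroup (Fin 3) (ZMod 2)) :
    ∃ E : Subgroup Q, Cfsg.IsElementaryAbelian 2 E ∧ Nat.card E = 2 ^ 4 := by
  classical
  haveI : Fact (Nat.Prime 2) := ⟨Nat.prime_two⟩
  haveI : Fact (Nat.Prime 7) := ⟨by norm_num⟩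
  obtain ⟨z, L, hz, hL, -, hc, hcase⟩ := Cfsg.Lib.Extraspecial.two_kinds hQ
  have hlen : L.length = 3 := by
    rw [hcard] at hc
    have := Nat.pow_right_injective le_rfl hc
    omega
  rcases hcase with ⟨hD, -⟩ | ⟨-, hinv⟩
  · obtain ⟨F⟩ := frame_of_list hz hL hlen hD
    have hsm : ∀ x < 16, ∀ y < 16, mulQ x y < 16 ∧ mulQ x x = 0 ∧ mulQ x y = mulQ y x := by decide +kernel
    let E : Subgroup Q :=
      { carrier := {g | ∃ x < 16, F.ι x = g}
        one_mem' := ⟨0, by omega, F.ι_zero⟩
        mul_mem' := by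
          rintro _ _ ⟨x, hx, rfl⟩ ⟨y, hy, rfl⟩
          exact ⟨mulQ x y, (hsm x hx y hy).1, F.ι_mul (by omega) (by omega)⟩
        inv_mem' := by
          rintro _ ⟨x, hx, rfl⟩
          exact ⟨x, hx, eq_inv_of_mul_eq_one_left
            (by rw [← F.ι_mul (by omega) (by omega), (hsm x hx x hx).2.1, F.ι_zero])⟩ }
    refine ⟨E, ⟨⟨⟨?_⟩⟩, ?_⟩, ?_⟩
    · rintro ⟨_, x, hx, rfl⟩ ⟨_, y, hy, rfl⟩
      refine Subtype.ext ?_
      show F.ι x * F.ι y = F.ι y * F.ι x
      rw [← F.ι_mul (by omega) (by omega), ← F.ι_mul (by omega) (by omega), (hsm x hx y hy).2.2]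
    · rintro _ ⟨x, hx, rfl⟩
      rw [sq, ← F.ι_mul (by omega) (by omega), (hsm x hx x hx).2.1, F.ι_zero]
    · have : Function.Bijective (fun x : Fin 16 => (⟨F.ι x, x, x.2, rfl⟩ : E)) :=
        ⟨fun u v h => Fin.ext (F.ι_inj (by have := u.2; omega) (by have := v.2; omega)
          (congrArg (fun a : E => (a : Q)) h)),
          fun ⟨g, x, hx, e⟩ => ⟨⟨x, hx⟩, Subtype.ext e⟩⟩
      rw [← Nat.card_eq_of_bijective _ this, Nat.card_fin]
      norm_num
  · exfalso
    have h7 : 7 ∣ Nat.card P := by
      rw [Subgroup.card_eq_card_quotient_mul_card_subgroup Q, hcard, Nat.card_congr e.toEquiv,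
        Cfsg.Agent.S3035.slThree.2]
      norm_num
    obtain ⟨g, hg⟩ := exists_prime_orderOf_dvd_card' 7 h7
    have hgQ : g ∉ Q := by
      intro hmem
      have h := orderOf_dvd_natCard (⟨g, hmem⟩ : Q)
      rw [Subgroup.orderOf_mk, hg, hcard] at h
      norm_num at h
    let α : Q →* Q := (MulAut.conjNormal g).toMonoidHom
    have hα : ∀ q : Q, (α q : P) = g * q * g⁻¹ := fun q => MulAut.conjNormal_apply g q
    let R : Subgroup Q := MonoidHom.eqLocus α (MonoidHom.id Q)
    have hR : ∀ q : Q, q ∈ R ↔ g * (q : P) = q * g := fun q => by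
      show α q = q ↔ _
      rw [Subtype.ext_iff, hα, mul_inv_eq_iff_eq_mul]
    let H := Subgroup.zpowers g
    have hH : IsPGroup 7 H := IsPGroup.of_card (n := 1) (by rw [Nat.card_zpowers, hg, pow_one])
    letI : MulAction H Q :=
      { smul := fun h q => MulAut.conjNormal (h : P) q
        one_smul := fun q => by show MulAut.conjNormal ((1 : H) : P) q = q; simp
        mul_smul := fun a b q => by
          show MulAut.conjNormal ((a * b : H) : P) q = MulAut.conjNormal (a : P) (MulAut.conjNormal (b : P) q)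
          simp }
    have hfixQ : ∀ q : Q, q ∈ MulAction.fixedPoints H Q ↔ q ∈ R := by
      intro q
      rw [hR]
      constructor
      · intro h
        have h1 : MulAut.conjNormal g q = q := h ⟨g, Subgroup.mem_zpowers g⟩
        have h2 : g * (q : P) * g⁻¹ = q := (MulAut.conjNormal_apply g q).symm.trans (congrArg Subtype.val h1)
        exact mul_inv_eq_iff_eq_mul.1 h2
      · rintro h ⟨a, ha⟩
        obtain ⟨k, rfl⟩ := Subgroup.mem_zpowers_iff.1 ha
        refine Subtype.ext ?_
        show ((MulAut.conjNormal (g ^ k) q : Q) : P) = q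
        rw [MulAut.conjNormal_apply, ((show Commute g (q : P) from h).zpow_left k).eq, mul_inv_cancel_right]
    letI : MulAction H {x : Q // x ^ 2 = 1} :=
      { smul := fun h x => ⟨MulAut.conjNormal (h : P) x.1, by rw [← map_pow, x.2, map_one]⟩
        one_smul := fun x => Subtype.ext (one_smul H x.1)
        mul_smul := fun a b x => Subtype.ext (mul_smul a b x.1) }
    have m1 := hH.card_modEq_card_fixedPoints Q
    have m2 := hH.card_modEq_card_fixedPoints {x : Q // x ^ 2 = 1}
    have c1 : Nat.card (MulAction.fixedPoints H Q) = Nat.card R :=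
      Nat.card_congr (Equiv.subtypeEquivRight hfixQ)
    have c2 : Nat.card (MulAction.fixedPoints H {x : Q // x ^ 2 = 1}) = Nat.card {r : R // r ^ 2 = 1} :=
      Nat.card_congr
        { toFun := fun x => ⟨⟨x.1.1, (hfixQ _).1 fun h => congrArg Subtype.val (x.2 h)⟩,
            Subtype.ext (by simpa using x.1.2)⟩
          invFun := fun r => ⟨⟨r.1.1, by simpa using congrArg Subtype.val r.2⟩,
            fun h => Subtype.ext ((hfixQ _).2 r.1.2 h)⟩
          left_inv := fun x => rfl
          right_inv := fun r => rfl }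
    rw [c1, hcard] at m1
    rw [c2] at m2
    rw [hlen] at hinv
    norm_num at hinv
    rw [hinv] at m2
    obtain ⟨k, hk7, hk⟩ := (Nat.dvd_prime_pow Nat.prime_two).1 (hcard ▸ R.card_subgroup_dvd_card)
    rw [hk] at m1
    have hzR : z ∈ R := by
      have hmem : α z ∈ Subgroup.center Q := by
        rw [Subgroup.mem_center_iff]
        intro q
        obtain ⟨q', rfl⟩ := (MulAut.conjNormal g : Q ≃* Q).surjective q
        show α q' * α z = α z * α q'
        rw [← map_mul, ← map_mul, (hz.commute_z q' (Subgroup.mem_zpowers z)).eq]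
      have hZ : ∀ c ∈ Subgroup.center Q, c = 1 ∨ c = z := by
        haveI := Fintype.ofFinite ↥(Subgroup.center Q)
        intro c hcc
        have hzc : z ∈ Subgroup.center Q :=
          Subgroup.mem_center_iff.2 fun q => (hz.commute_z q (Subgroup.mem_zpowers z)).eq
        by_contra hno
        push Not at hno
        have h3 : ({1, ⟨z, hzc⟩, ⟨c, hcc⟩} : Finset ↥(Subgroup.center Q)).card = 3 :=
          Finset.card_eq_three.2 ⟨1, ⟨z, hzc⟩, ⟨c, hcc⟩, fun h => hz.ne_one (congrArg Subtype.val h).symm,
            fun h => hno.1 (congrArg Subtype.val h).symm, fun h => hno.2 (congrArg Subtype.val h).symm, rfl⟩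
        have h4 := Finset.card_le_univ ({1, ⟨z, hzc⟩, ⟨c, hcc⟩} : Finset ↥(Subgroup.center Q))
        rw [h3, ← Nat.card_eq_fintype_card, hQ.2] at h4
        omega
      show α z = z
      rcases hZ _ hmem with h | h
      · exact absurd ((MulEquiv.map_eq_one_iff (MulAut.conjNormal g : Q ≃* Q)).1 h) hz.ne_one
      · exact h
    have hset : Cfsg.Lib.Extraspecial.Setting 2 (⟨z, hzR⟩ : R) := by
      refine ⟨Subgroup.mem_center_iff.2 fun r => Subtype.ext
          ((hz.commute_z (r : Q) (Subgroup.mem_zpowers z)).eq), ?_, fun a b => ?_, fun a => ?_⟩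
      · rw [Subgroup.orderOf_mk, hz.ord]
      · obtain ⟨j, hj⟩ := Subgroup.mem_zpowers_iff.1 (hz.comm (a : Q) (b : Q))
        exact Subgroup.mem_zpowers_iff.2 ⟨j, Subtype.ext (by simpa [commutatorElement_def] using hj)⟩
      · obtain ⟨j, hj⟩ := Subgroup.mem_zpowers_iff.1 (hz.pow (a : Q))
        exact Subgroup.mem_zpowers_iff.2 ⟨j, Subtype.ext (by simpa using hj)⟩
    have hle := Nat.card_le_card_of_injective (fun r : {r : R // r ^ 2 = 1} => r.1) fun _ _ h => Subtype.ext h
    rw [hk] at hle
    have heven : 2 ∣ Nat.card {r : R // r ^ 2 = 1} := by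
      have hzz : (⟨z, hzR⟩ : R) ^ 2 = 1 := Subtype.ext hz.pow_z
      letI : MulAction (Subgroup.zpowers (⟨z, hzR⟩ : R)) {r : R // r ^ 2 = 1} :=
        { smul := fun h r => ⟨(h : R) * r.1, by
            obtain ⟨j, hj⟩ := Subgroup.mem_zpowers_iff.1 h.2
            have hc : Commute ((h : R)) r.1 := by
              rw [← hj]; exact ((hset.commute_z r.1 (Subgroup.mem_zpowers _)).symm).zpow_left j
            rw [hc.mul_pow, r.2, mul_one, ← hj, ← zpow_natCast, ← zpow_mul, mul_comm, zpow_mul, zpow_natCast,
              hzz, one_zpow]⟩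
          one_smul := fun r => Subtype.ext (one_mul _)
          mul_smul := fun a b r => Subtype.ext (mul_assoc _ _ _) }
      have hp : IsPGroup 2 (Subgroup.zpowers (⟨z, hzR⟩ : R)) :=
        IsPGroup.of_card (n := 1) (by rw [Nat.card_zpowers, hset.ord, pow_one])
      have h := hp.card_modEq_card_fixedPoints {r : R // r ^ 2 = 1}
      have h0 : Nat.card (MulAction.fixedPoints (Subgroup.zpowers (⟨z, hzR⟩ : R)) {r : R // r ^ 2 = 1}) = 0 := by
        rw [Nat.card_eq_zero]
        refine Or.inl ⟨fun r => hset.ne_one ?_⟩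
        have h1 : (⟨z, hzR⟩ : R) * r.1.1 = r.1.1 :=
          congrArg Subtype.val (r.2 ⟨_, Subgroup.mem_zpowers _⟩)
        simpa using h1
      rw [h0] at h
      exact Nat.modEq_zero_iff_dvd.1 h
    have hne : 0 < Nat.card {r : R // r ^ 2 = 1} :=
      haveI : Nonempty {r : R // r ^ 2 = 1} := ⟨⟨1, one_pow 2⟩⟩
      Nat.card_pos
    have hk4 : k = 4 := by
      have hk7' : k ≠ 7 := by
        rintro rfl
        have htop : R = ⊤ := Subgroup.eq_top_of_card_eq _ (by rw [hk, hcard])
        refine hgQ (hcent (Subgroup.mem_centralizer_iff.2 fun q hq => ?_))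
        exact ((hR ⟨q, hq⟩).1 (htop ▸ Subgroup.mem_top _)).symm
      unfold Nat.ModEq at m1 m2
      interval_cases k <;> first
        | omega
        | (norm_num at m1; done)
        | (norm_num at hle; omega)
    subst hk4
    refine no_two_of_sixteen hset (by rw [hk]; norm_num) ?_
    unfold Nat.ModEq at m2
    norm_num at hle
    omega

end Cfsg.Lib.HeldType.CentShape
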