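import Cfsg.Agent.Lib.HeldType.CentShape.Main
import Cfsg.Agent.Lib.HeldType.CentShape.PlusType
import Cfsg.Agent.S1265
import Cfsg.Prelude.Def_MonsterType

/-!
# Groups of Held type have the centraliser of a transvection
-/

set_option autoImplicit false

namespace Cfsg.Lib.HeldType.CentShape

open Matrix

/-- A group of Held type has an involution with the centraliser of a transvection, not weakly closed
in the largest normal 2-subgroup. -/
theorem exists_of_isOfHeldType {G : Type*} [Group G] [Finite G] (hG : Cfsg.IsOfHeldType G)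
    {s : SpecialLinearGroup (Fin 5) (ZMod 2)}
    (hs : (s : Matrix (Fin 5) (Fin 5) (ZMod 2)) = transvection 0 1 1) :
    ∃ (z : G) (Q : Subgroup (Subgroup.centralizer ({z} : Set G))), orderOf z = 2 ∧
      Cfsg.generalizedFittingSubgroup (Subgroup.centralizer ({z} : Set G)) = Q ∧
      (∃ g : G, (∃ hq : g * z * g⁻¹ ∈ Subgroup.centralizer ({z} : Set G),
        (⟨g * z * g⁻¹, hq⟩ : Subgroup.centralizer ({z} : Set G)) ∈ Q) ∧ g * z * g⁻¹ ≠ z) ∧
      Set.ncard {x : Subgroup.centralizer ({z} : Set G) | x ∈ Q ∧ IsConj z (x : G)} = 29 ∧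
      Nonempty ((Subgroup.centralizer ({z} : Set G)) ≃*
        Subgroup.centralizer ({s} : Set (SpecialLinearGroup (Fin 5) (ZMod 2)))) := by
  obtain ⟨z, Q, hn, ⟨hz, hF, hQ, hcard, hg⟩, ⟨e⟩, h29⟩ := hG
  haveI := hn
  have hc : Subgroup.centralizer (Q : Set (Subgroup.centralizer ({z} : Set G))) ≤ Q := by
    conv_lhs => rw [← hF]
    exact Cfsg.Agent.S1265.result.trans hF.le
  have h7 : Nat.card Q = 2 ^ 7 := hcard
  refine ⟨z, Q, hz, hF, hg, h29, centralizer_iso_of_conjugates hz Q hQ h7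
    (exists_elementary Q hQ h7 hc e) hc e ?_ hs⟩
  refine lt_of_lt_of_le (by rw [h29]; norm_num : 16 < Set.ncard
    {x : Subgroup.centralizer ({z} : Set G) | x ∈ Q ∧ IsConj z (x : G)}) ?_
  exact Set.ncard_le_ncard (fun x hx => hx.2) (Set.toFinite _)

end Cfsg.Lib.HeldType.CentShape
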