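import Cfsg.Agent.S1682
import Cfsg.Agent.Lib.CosetEnum.HeRealisation

/-!
# `Sp(4, 4):2` inside a group isomorphic to the Held group
-/

set_option autoImplicit false
set_option linter.style.haveILetI false

namespace Cfsg.Lib.HeldType.CentShape

open Cfsg.Spor

/-- A group isomorphic to the Held group has a subgroup `Sp(4, 4):2`. -/
theorem exists_spFour {G : Type*} [Group G] (hG : Cfsg.Spor.IsoHe G) :
    ∃ (H : Subgroup G) (N : Subgroup H) (K : Type) (_ : Field K) (_ : Fintype K),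
      N.Normal ∧ N.index = 2 ∧ Fintype.card K = 4 ∧ Nonempty (N ≃* Matrix.symplecticGroup (Fin 2) K) := by
  obtain ⟨φ⟩ := hG
  obtain ⟨N, F, hF1, hF2, -, hidx, hF4, ⟨e⟩⟩ := Cfsg.Agent.S1682.result
  set P := Cfsg.Lib.CosetEnum.HePres.pointGroup
  let e₁ : P ≃* P.map φ.symm.toMonoidHom := P.equivMapOfInjective φ.symm.toMonoidHom φ.symm.injective
  obtain ⟨M, hM, he⟩ := Cfsg.Lib.CosetEnum.HePres.exists_index_two_congr e₁ N hidx e
  exact ⟨_, M, F, hF1, hF2, Subgroup.normal_of_index_eq_two hM, hM, hF4, he⟩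

end Cfsg.Lib.HeldType.CentShape
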